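import Cfsg.Agent.Lib.PermGp.JordanCycle
import Mathlib.GroupTheory.Sylow
import Mathlib.GroupTheory.GroupAction.MultipleTransitivity
import Mathlib.GroupTheory.GroupAction.Jordan

/-!
# Multiply transitive groups of degree `2 r + 3` or `3 r + 4`

The normaliser of a Sylow `r`-subgroup of the stabiliser of the three or four points yields
a three cycle.
-/

set_option autoImplicit false
set_option linter.unusedSectionVars false
set_option linter.style.haveILetI false

namespace Cfsg.Agent.PrimeDegreePairs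

open MulAction

variable {Ω : Type*} [Fintype Ω] [DecidableEq Ω]

set_option maxHeartbeats 1000000 in
/-- A primitive group with enough transitivity of degree `c r + k` contains the alternating group,
for `(c, k) = (2, 3)` or `(3, 4)`. -/
theorem alternating_le_of_degree (H : Subgroup (Equiv.Perm Ω)) [IsPreprimitive H Ω]
    {c k r : ℕ} (hck : (c = 2 ∧ k = 3) ∨ (c = 3 ∧ k = 4)) (hr : r.Prime) (hr5 : 5 ≤ r)
    (hdeg : Fintype.card Ω = c * r + k) [IsMultiplyPretransitive H Ω 5] :
    alternatingGroup Ω ≤ H := by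
  classical
  haveI := Fact.mk hr
  by_contra hno
  have hc3 : c ≤ 3 := by omega
  have hk : k + 1 ≤ 5 := by omega
  have hk5 : 5 ≤ Nat.card Ω := by
    rw [Nat.card_eq_fintype_card, hdeg]
    rcases hck with ⟨rfl, rfl⟩ | ⟨rfl, rfl⟩ <;> omega
  haveI hTk1 : IsMultiplyPretransitive H Ω (k + 1) :=
    isMultiplyPretransitive_of_le hk hk5
  -- the chosen points
  obtain ⟨s⟩ : Nonempty (Fin k ↪ Ω) := Function.Embedding.nonempty_of_card_le (by simp [hdeg])
  set F : Finset Ω := Finset.univ.map s with hF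
  have hFcard : F.card = k := by simp [hF]
  have memF : ∀ {v}, v ∈ F ↔ ∃ i, s i = v := by simp [hF]
  let M : Subgroup H :=
    { carrier := {g | ∃ σ : Equiv.Perm (Fin k), ∀ i, g • s i = s (σ i)}
      one_mem' := ⟨1, fun i => by simp⟩
      mul_mem' := by
        rintro g g' ⟨σ, hσ⟩ ⟨τ, hτ⟩
        exact ⟨σ * τ, fun i => by rw [mul_smul, hτ, hσ]; rfl⟩
      inv_mem' := by
        rintro g ⟨σ, hσ⟩
        exact ⟨σ⁻¹, fun i => by rw [inv_smul_eq_iff, hσ]; simp⟩ }
  have hM : ∀ g : M, ∃ σ : Equiv.Perm (Fin k), ∀ i, (g : H) • s i = s (σ i) := fun g => g.2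
  choose φ₀ hφ₀ using hM
  let φ : M →* Equiv.Perm (Fin k) := MonoidHom.mk' φ₀ fun g g' => Equiv.ext fun i => s.injective (by
    rw [← hφ₀, Subgroup.coe_mul, mul_smul, hφ₀, hφ₀]; rfl)
  have hφ : ∀ (g : M) (i : Fin k), (g : H) • s i = s (φ g i) := hφ₀
  have hMF : ∀ (g : M) {v}, v ∉ F → (g : H) • v ∉ F := by
    intro g v hv hgv
    obtain ⟨i, hi⟩ := memF.mp hgv
    refine hv (memF.mpr ⟨(φ g).symm i, MulAction.injective (g : H) ?_⟩)
    show (g : H) • s ((φ g).symm i) = (g : H) • v
    rw [hφ, Equiv.apply_symm_apply, hi]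
  have hsurj : Function.Surjective φ := by
    intro σ
    haveI : IsMultiplyPretransitive H Ω k := isMultiplyPretransitive_of_le (n := k + 1) (Nat.le_succ k)
      (hk.trans hk5)
    obtain ⟨g, hg⟩ := exists_smul_eq H s (σ.toEmbedding.trans s)
    have hg' : ∀ i, g • s i = s (σ i) := fun i => congrArg (fun e : Fin k ↪ Ω => e i) hg
    exact ⟨⟨g, σ, hg'⟩, Equiv.ext fun i => s.injective (by rw [← hφ]; exact hg' i)⟩
  have hker : ∀ g : M, g ∈ φ.ker ↔ ∀ i, (g : H) • s i = s i := by
    intro g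
    rw [MonoidHom.mem_ker]
    exact ⟨fun h i => by rw [hφ, h]; rfl, fun h => Equiv.ext fun i => s.injective (by rw [← hφ, h]; rfl)⟩
  -- a Sylow subgroup of the pointwise stabilizer
  obtain ⟨R⟩ : Nonempty (Sylow r φ.ker) := inferInstance
  set RM : Subgroup M := (R : Subgroup φ.ker).map φ.ker.subtype with hRM
  have hRker : ∀ {h}, h ∈ RM → h ∈ φ.ker := by rintro _ ⟨x, -, rfl⟩; exact x.2
  have hRp : IsPGroup r RM := R.2.map _
  have hRfix : ∀ {h}, h ∈ RM → ∀ v ∈ F, (h : H) • v = v := by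
    intro h hh v hv
    obtain ⟨i, rfl⟩ := memF.mp hv
    exact (hker h).mp (hRker hh) i
  let Orb : Ω → Finset Ω := fun v => Finset.univ.filter fun w => ∃ h ∈ RM, ((h : M) : H) • v = w
  have self_orb : ∀ v, v ∈ Orb v := fun v =>
    Finset.mem_filter.mpr ⟨Finset.mem_univ _, 1, one_mem _, by simp⟩
  have mem_orb : ∀ {v w}, w ∈ Orb v → ∃ h ∈ RM, ((h : M) : H) • v = w := fun h => (Finset.mem_filter.mp h).2
  have orb_mem : ∀ {v} {h : M}, h ∈ RM → (h : H) • v ∈ Orb v := fun hh =>
    Finset.mem_filter.mpr ⟨Finset.mem_univ _, _, hh, rfl⟩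
  have orb_eq : ∀ {v w}, w ∈ Orb v → Orb w = Orb v := by
    intro v w hw
    obtain ⟨h, hh, rfl⟩ := mem_orb hw
    ext u
    simp only [Orb, Finset.mem_filter, Finset.mem_univ, true_and]
    constructor
    · rintro ⟨g, hg, rfl⟩
      exact ⟨g * h, mul_mem hg hh, by rw [Subgroup.coe_mul, mul_smul]⟩
    · rintro ⟨g, hg, rfl⟩
      exact ⟨g * h⁻¹, mul_mem hg (inv_mem hh), by rw [Subgroup.coe_mul, Subgroup.coe_inv, mul_smul, inv_smul_smul]⟩
  have orbF : ∀ {v w}, v ∉ F → w ∈ Orb v → w ∉ F := by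
    intro v w hv hw
    obtain ⟨h, -, rfl⟩ := mem_orb hw
    exact hMF h hv
  have orbPow : ∀ v, ∃ j, (Orb v).card = r ^ j := by
    intro v
    obtain ⟨j, hj⟩ := hRp.card_orbit v
    refine ⟨j, ?_⟩
    rw [← hj, ← Fintype.card_coe, ← Nat.card_eq_fintype_card]
    refine Nat.card_congr (Equiv.subtypeEquivRight fun w => ?_)
    simp only [Orb, Finset.mem_filter, Finset.mem_univ, true_and]
    exact ⟨fun ⟨h, hh, e⟩ => ⟨⟨h, hh⟩, e⟩, fun ⟨⟨h, hh⟩, e⟩ => ⟨h, hh, e⟩⟩
  have hcompl : (Finset.univ \ F).card = c * r := by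
    rw [Finset.card_sdiff_of_subset (Finset.subset_univ _), Finset.card_univ, hdeg, hFcard]
    omega
  have orb_sub : ∀ {v}, v ∉ F → Orb v ⊆ Finset.univ \ F := fun hv w hw =>
    Finset.mem_sdiff.mpr ⟨Finset.mem_univ _, orbF hv hw⟩
  have orbCard : ∀ {v}, v ∉ F → (Orb v).card = r := by
    intro v hv
    obtain ⟨j, hj⟩ := orbPow v
    rcases (show j = 0 ∨ j = 1 ∨ 2 ≤ j by omega) with rfl | rfl | hj2
    · exfalso
      have hfix : ∀ h ∈ RM, ((h : M) : H) • v = v := fun h hh =>
        Finset.card_le_one.mp (by rw [hj, pow_zero]) _ (orb_mem hh) _ (self_orb v)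
      let A : Subgroup φ.ker :=
        { carrier := {g | (g.1 : H) • v = v}
          one_mem' := by show (((1 : φ.ker) : M) : H) • v = v; simp
          mul_mem' := fun {g g'} h h' => by
            show (((g * g' : φ.ker) : M) : H) • v = v
            rw [Subgroup.coe_mul, Subgroup.coe_mul, mul_smul, show (g'.1 : H) • v = v from h', show (g.1 : H) • v = v from h]
          inv_mem' := fun {g} h => by
            show (((g⁻¹ : φ.ker) : M) : H) • v = v
            rw [Subgroup.coe_inv, Subgroup.coe_inv, inv_smul_eq_iff]; exact h.symm }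
      have hA : A.index = c * r := by
        rw [← hcompl, ← Fintype.card_coe, ← Nat.card_eq_fintype_card]
        refine Nat.card_eq_of_bijective
          (Quotient.lift (fun g : φ.ker => (⟨(g.1 : H) • v,
            Finset.mem_sdiff.mpr ⟨Finset.mem_univ _, hMF g.1 hv⟩⟩ : ↥(Finset.univ \ F))) ?_) ⟨?_, ?_⟩
        · intro g g' h
          have h' : g⁻¹ * g' ∈ A := QuotientGroup.leftRel_apply.mp h
          apply Subtype.ext
          have h'' : (((g⁻¹ * g' : φ.ker) : M) : H) • v = v := h'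
          rw [Subgroup.coe_mul, Subgroup.coe_inv, Subgroup.coe_mul, Subgroup.coe_inv, mul_smul, inv_smul_eq_iff] at h''
          exact h''.symm
        · intro a b
          induction a using Quotient.inductionOn with
          | h g =>
          induction b using Quotient.inductionOn with
          | h g' =>
          intro h
          refine Quotient.sound (QuotientGroup.leftRel_apply.mpr ?_)
          show (((g⁻¹ * g' : φ.ker) : M) : H) • v = v
          rw [Subgroup.coe_mul, Subgroup.coe_inv, Subgroup.coe_mul, Subgroup.coe_inv, mul_smul, inv_smul_eq_iff]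
          exact (congrArg Subtype.val h).symm
        · rintro ⟨w, hw⟩
          have hwF : w ∉ F := (Finset.mem_sdiff.mp hw).2
          obtain ⟨g, hg⟩ := exists_smul_eq H
            (⟨Fin.cons v s, Fin.cons_injective_iff.mpr ⟨fun ⟨i, hi⟩ => hv (memF.mpr ⟨i, hi⟩), s.injective⟩⟩ : Fin (k + 1) ↪ Ω)
            ⟨Fin.cons w s, Fin.cons_injective_iff.mpr ⟨fun ⟨i, hi⟩ => hwF (memF.mpr ⟨i, hi⟩), s.injective⟩⟩
          have h0 : g • v = w := congrArg (fun e : Fin (k + 1) ↪ Ω => e 0) hg
          have hi : ∀ i, g • s i = s i := fun i => by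
            simpa using congrArg (fun e : Fin (k + 1) ↪ Ω => e i.succ) hg
          exact ⟨Quotient.mk'' ⟨⟨g, 1, fun i => by simpa using hi i⟩, (hker _).mpr hi⟩, Subtype.ext h0⟩
      have hRA : (R : Subgroup φ.ker) ≤ A := fun g hg => hfix _ ⟨g, hg, rfl⟩
      exact R.not_dvd_index ((Dvd.intro_left c hA.symm).trans (Subgroup.index_dvd_of_le hRA))
    · rw [hj, pow_one]
    · exfalso
      have h1 := Finset.card_le_card (orb_sub hv)
      rw [hj, hcompl] at h1
      have h2 : r ^ 2 ≤ r ^ j := Nat.pow_le_pow_right hr.pos hj2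
      nlinarith
  have coeM : ∀ (g : M) (n : ℕ), (((g ^ n : M)) : H) = (g : H) ^ n := fun g n => Subgroup.coe_pow _ _ _
  have memO : ∀ {x : M} {v u}, x ∈ RM → u ∈ Orb v → (x : H) • u ∈ Orb v := fun hx hu =>
    orb_eq hu ▸ orb_mem hx
  -- periods
  have hper : ∀ {g : M} {v}, g ∈ RM → v ∉ F → (g : H) • v ≠ v →
      ∀ n : ℕ, ((g : H) ^ n • v = v ↔ r ∣ n) := by
    intro g v hg hv hgv n
    set t := Function.minimalPeriod (fun x => (g : H) • x) v with ht
    have hiff : ∀ n : ℕ, (g : H) ^ n • v = v ↔ t ∣ n := fun n =>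
      MulAction.pow_smul_eq_iff_minimalPeriod_dvd
    obtain ⟨e, he⟩ := hRp ⟨g, hg⟩
    have hgpe : (g : H) ^ r ^ e • v = v := by
      have := congrArg (fun x : RM => ((x : M) : H)) he
      simp only [SubmonoidClass.coe_pow, OneMemClass.coe_one] at this
      rw [this, one_smul]
    obtain ⟨j, -, hj⟩ := (Nat.dvd_prime_pow hr).mp ((hiff _).mp hgpe)
    have htle : t ≤ r := by
      rw [← orbCard hv, ← Finset.card_range t]
      refine Finset.card_le_card_of_injOn (fun i => (g : H) ^ i • v) (fun i _ => ?_) ?_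
      · show (g : H) ^ i • v ∈ Orb v
        rw [← coeM]; exact orb_mem (pow_mem hg i)
      · intro i hi l hl e
        rw [Finset.coe_range, Set.mem_Iio] at hi hl
        rw [ht] at hi hl
        exact Function.iterate_injOn_Iio_minimalPeriod hi hl (by simpa [smul_iterate] using e)
    rw [hiff]
    rcases j with _ | _ | j
    · exact absurd (by simpa using (hiff 1).mpr (by rw [hj, pow_zero])) hgv
    · rw [hj, pow_one]
    · exfalso
      have h2 : r ^ 2 ≤ r ^ (j + 1 + 1) := Nat.pow_le_pow_right hr.pos (by omega)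
      have := hr.two_le
      nlinarith
  have hinO : ∀ {g : M} {v w}, g ∈ RM → v ∉ F → (g : H) • v ≠ v → w ∈ Orb v →
      ∃ n : ℕ, (g : H) ^ n • v = w := by
    intro g v w hg hv hgv hw
    have : (Finset.range r).image (fun i => (g : H) ^ i • v) = Orb v := by
      refine Finset.eq_of_subset_of_card_le ?_ ?_
      · intro u hu
        obtain ⟨i, -, rfl⟩ := Finset.mem_image.mp hu
        rw [← coeM]; exact orb_mem (pow_mem hg i)
      · rw [orbCard hv, Finset.card_image_of_injOn, Finset.card_range]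
        intro i hi l hl e
        simp only [Finset.coe_range, Set.mem_Iio] at hi hl
        have key : ∀ {i l : ℕ}, i ≤ l → l < r → (g : H) ^ i • v = (g : H) ^ l • v → i = l := by
          intro i l hil hl e
          have h' : (g : H) ^ i • (g : H) ^ (l - i) • v = (g : H) ^ i • v := by
            rw [← mul_smul, ← pow_add, Nat.add_sub_cancel' hil, ← e]
          have := Nat.eq_zero_of_dvd_of_lt ((hper hg hv hgv _).mp (MulAction.injective _ h')) (by omega)
          omega
        rcases le_total i l with h | h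
        · exact key h hl e
        · exact (key h hi e.symm).symm
    obtain ⟨n, -, hn⟩ := Finset.mem_image.mp (this ▸ hw)
    exact ⟨n, hn⟩
  -- an element fixing a point fixes its orbit
  have hstab : ∀ {h : M} {v}, h ∈ RM → (h : H) • v = v → ∀ w ∈ Orb v, (h : H) • w = w := by
    intro h v hh hv w hw
    by_contra hne
    by_cases hvF : v ∈ F
    · obtain ⟨g, hg, rfl⟩ := mem_orb hw
      rw [hRfix hg v hvF] at hne; exact hne hv
    obtain ⟨n, hn⟩ := hinO hh (orbF hvF hw) hne ((orb_eq hw).symm ▸ self_orb v)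
    rw [← hn, ← mul_smul, ← pow_succ', pow_succ, mul_smul] at hv
    exact hne (MulAction.injective _ hv)
  -- elements are determined by their action off the chosen points
  have hext : ∀ {g g' : M}, g ∈ RM → g' ∈ RM → (∀ v, v ∉ F → (g : H) • v = (g' : H) • v) → g = g' := by
    intro g g' hg hg' h
    refine Subtype.ext (Subtype.ext (Equiv.ext fun v => ?_))
    by_cases hv : v ∈ F
    · exact (hRfix hg v hv).trans (hRfix hg' v hv).symm
    · exact h v hv
  have hr1 : ∀ {g : M}, g ∈ RM → g ^ r = 1 := by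
    intro g hg
    refine hext (pow_mem hg r) (one_mem _) fun v hv => ?_
    rw [coeM, OneMemClass.coe_one, one_smul]
    by_cases hgv : (g : H) • v = v
    · exact MulAction.mem_stabilizer_iff.mp (pow_mem (MulAction.mem_stabilizer_iff.mpr hgv) r)
    · exact (hper hg hv hgv r).mpr dvd_rfl
  have hmodpow : ∀ {g : M}, g ∈ RM → ∀ {i l : ℕ}, i ≡ l [MOD r] → g ^ i = g ^ l := by
    intro g hg i l h
    exact pow_eq_pow_iff_modEq.mpr (h.of_dvd (orderOf_dvd_of_pow_eq_one (hr1 hg)))
  have hexp : ∀ {g : M} {v}, g ∈ RM → v ∉ F → (g : H) • v ≠ v →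
      ∀ {i l : ℕ}, (g : H) ^ i • v = (g : H) ^ l • v → i ≡ l [MOD r] := by
    intro g v hg hv hgv i l e
    wlog hil : i ≤ l generalizing i l
    · exact (this e.symm (le_of_not_ge hil)).symm
    refine (Nat.modEq_iff_dvd' hil).mpr ((hper hg hv hgv _).mp (MulAction.injective ((g : H) ^ i) ?_))
    show (g : H) ^ i • (g : H) ^ (l - i) • v = (g : H) ^ i • v
    rw [← mul_smul, ← pow_add, Nat.add_sub_cancel' hil, ← e]
  have hpowO : ∀ {g h : M} {v}, g ∈ RM → h ∈ RM → v ∉ F → (g : H) • v ≠ v →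
      ∃ n : ℕ, ∀ w ∈ Orb v, (h : H) • w = ((g ^ n : M) : H) • w := by
    intro g h v hg hh hv hgv
    obtain ⟨n, hn⟩ := hinO hg hv hgv (orb_mem hh)
    refine ⟨n, fun w hw => ?_⟩
    have := hstab (h := (g ^ n)⁻¹ * h) (mul_mem (inv_mem (pow_mem hg n)) hh)
      (by rw [Subgroup.coe_mul, Subgroup.coe_inv, mul_smul, inv_smul_eq_iff, coeM]; exact hn.symm) w hw
    rwa [Subgroup.coe_mul, Subgroup.coe_inv, mul_smul, inv_smul_eq_iff] at this
  have mover : ∀ {v}, v ∉ F → ∃ g ∈ RM, ((g : M) : H) • v ≠ v := by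
    intro v hv
    obtain ⟨w, hw, hwv⟩ := Finset.exists_mem_ne (by rw [orbCard hv]; omega) v
    obtain ⟨g, hg, rfl⟩ := mem_orb hw
    exact ⟨g, hg, hwv⟩
  -- no element moves exactly one orbit
  have nosingle : ∀ {g : M} {v}, g ∈ RM → v ∉ F → (g : H) • v ≠ v →
      ∃ u, u ∉ F ∧ u ∉ Orb v ∧ (g : H) • u ≠ u := by
    intro g v hg hv hgv
    by_contra hcon
    push Not at hcon
    apply hno
    have hsupp : ((g : H) : Equiv.Perm Ω).support = Orb v := by
      ext u
      rw [Equiv.Perm.mem_support]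
      constructor
      · intro hu
        by_contra huO
        by_cases huF : u ∈ F
        · exact hu (hRfix hg u huF)
        · exact hu (hcon u huF huO)
      · intro hu e
        exact hgv (hstab hg e v ((orb_eq hu).symm ▸ self_orb v))
    refine PermGp.alternating_le_of_prime_cycle inferInstance hr ?_ ?_ ?_ (g : H).2 (p := r)
    · rw [hdeg]; rcases hck with ⟨rfl, rfl⟩ | ⟨rfl, rfl⟩ <;> omega
    · refine ⟨v, hgv, fun u hu => ?_⟩
      rw [← Equiv.Perm.mem_support, hsupp] at hu
      obtain ⟨n, rfl⟩ := hinO hg hv hgv hu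
      refine ⟨(n : ℤ), ?_⟩
      rw [zpow_natCast, ← Subgroup.coe_pow]
      rfl
    · rw [hsupp, orbCard hv]
  -- the normaliser
  set N : Subgroup M := Subgroup.normalizer (RM : Set M) with hN
  have hNR : ∀ n ∈ N, ∀ h ∈ RM, n * h * n⁻¹ ∈ RM := fun n hn h hh =>
    (Subgroup.mem_normalizer_iff.mp hn h).mp hh
  have hNimg : ∀ σ : Equiv.Perm (Fin k), ∃ n ∈ N, φ n = σ := by
    intro σ
    obtain ⟨g, rfl⟩ := hsurj σ
    have htop := Sylow.normalizer_sup_eq_top (N := φ.ker) R
    have hg : g ∈ N ⊔ φ.ker := by rw [hN, hRM]; rw [htop]; trivial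
    obtain ⟨n, hn, z, hz, rfl⟩ := Subgroup.mem_sup_of_normal_right.mp hg
    exact ⟨n, hn, by rw [map_mul, MonoidHom.mem_ker.mp hz, mul_one]⟩
  have hNorb : ∀ (n : M), n ∈ N → ∀ v, (Orb v).image (fun u => (n : H) • u) = Orb ((n : H) • v) := by
    intro n hn v
    ext u
    simp only [Finset.mem_image]
    constructor
    · rintro ⟨w, hw, rfl⟩
      obtain ⟨h, hh, rfl⟩ := mem_orb hw
      exact Finset.mem_filter.mpr ⟨Finset.mem_univ _, n * h * n⁻¹, hNR n hn h hh, by simp [mul_smul]⟩
    · intro hu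
      obtain ⟨h, hh, rfl⟩ := mem_orb hu
      refine ⟨((n⁻¹ * h * n : M) : H) • v, orb_mem ?_, by simp [mul_smul]⟩
      have := hNR n⁻¹ (inv_mem hn) h hh
      rwa [inv_inv] at this
  -- the action on the set of orbits
  let Q := {S : Finset Ω // ∃ v, v ∉ F ∧ S = Orb v}
  have hQ : Fintype.card Q = c := by
    have hpd : (Finset.univ.map (Function.Embedding.subtype fun S => ∃ v, v ∉ F ∧ S = Orb v)) =
        (Finset.univ \ F).image Orb := by
      ext S; simp [eq_comm]
    rw [← Finset.card_univ, ← Finset.card_map (Function.Embedding.subtype _), hpd]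
    have hfib : ∀ S ∈ (Finset.univ \ F).image Orb, ((Finset.univ \ F).filter fun v => Orb v = S).card = r := by
      intro S hS
      obtain ⟨v, hv, rfl⟩ := Finset.mem_image.mp hS
      rw [← orbCard (Finset.mem_sdiff.mp hv).2]
      congr 1
      ext u
      simp only [Finset.mem_filter]
      exact ⟨fun h => h.2 ▸ self_orb u, fun h => ⟨orb_sub (Finset.mem_sdiff.mp hv).2 h, orb_eq h⟩⟩
    have := Finset.card_eq_sum_card_image Orb (Finset.univ \ F)
    rw [Finset.sum_congr rfl hfib, Finset.sum_const, smul_eq_mul, hcompl] at this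
    exact (Nat.eq_of_mul_eq_mul_right hr.pos this).symm
  let act : N → Q → Q := fun n S => ⟨S.1.image fun u => ((n : M) : H) • u, by
    obtain ⟨v, hv, hS⟩ := S.2
    exact ⟨((n : M) : H) • v, hMF n.1 hv, by rw [hS, hNorb n.1 n.2]⟩⟩
  have act_mul : ∀ (n n' : N) (S : Q), act (n * n') S = act n (act n' S) := fun n n' S =>
    Subtype.ext (by simp [act, Finset.image_image, Function.comp_def, mul_smul])
  have act_one : ∀ S : Q, act 1 S = S := fun S => Subtype.ext (by simp [act])
  let π : N →* Equiv.Perm Q := MonoidHom.mk' (fun n =>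
      { toFun := act n
        invFun := act n⁻¹
        left_inv := fun S => by rw [← act_mul, inv_mul_cancel, act_one]
        right_inv := fun S => by rw [← act_mul, mul_inv_cancel, act_one] })
    fun n n' => Equiv.ext fun S => act_mul n n' S
  have hπ : ∀ (n : N), π n = 1 → ∀ v, v ∉ F → ((n : M) : H) • v ∈ Orb v := by
    intro n hn v hv
    have := congrArg Subtype.val (Equiv.congr_fun hn ⟨Orb v, v, hv, rfl⟩)
    change (Orb v).image (fun u => ((n : M) : H) • u) = Orb v at this
    rw [← this]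
    exact Finset.mem_image_of_mem _ (self_orb v)
  -- a kernel element acts on the Sylow subgroup as a scalar
  have scalar : ∀ n : N, π n = 1 → ∀ h ∈ RM, ∀ n' : N,
      Commute ((n * n' * n⁻¹ * n'⁻¹ : N) : M) h := by
    intro n hn
    set a := (n : M) with ha
    have hinv : ∀ {v u}, v ∉ F → u ∈ Orb v → (a : H)⁻¹ • u ∈ Orb v := by
      intro v u hv hu
      have hu' : u ∈ (Orb v).image fun z => (a : H) • z := by
        rw [hNorb a n.2, orb_eq (hπ n hn v hv)]; exact hu
      obtain ⟨z, hz, rfl⟩ := Finset.mem_image.mp hu'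
      rwa [inv_smul_smul]
    have hmult : ∀ v, v ∉ F → ∃ m : ℕ, ∀ h ∈ RM,
        ((a * h * a⁻¹ : M) : H) • v = ((h ^ m : M) : H) • v := by
      intro v hv
      obtain ⟨g, hg, hgv⟩ := mover hv
      obtain ⟨m, hm⟩ := hpowO hg (hNR a n.2 g hg) hv hgv
      refine ⟨m, fun h hh => ?_⟩
      obtain ⟨i, hi⟩ := hpowO hg hh hv hgv
      have e1 : ((a * h * a⁻¹ : M) : H) • v = (((a * g * a⁻¹) ^ i : M) : H) • v := by
        rw [conj_pow, Subgroup.coe_mul, Subgroup.coe_mul, Subgroup.coe_mul, Subgroup.coe_mul,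
          mul_smul, mul_smul, mul_smul, mul_smul, Subgroup.coe_inv, hi _ (hinv hv (self_orb v))]
      have agreePow : ∀ {x y : M}, x ∈ RM → y ∈ RM → (∀ u ∈ Orb v, (x : H) • u = (y : H) • u) →
          ∀ j : ℕ, ((x ^ j : M) : H) • v = ((y ^ j : M) : H) • v := by
        intro x y hx hy hxy j
        induction j with
        | zero => simp
        | succ j ih =>
          rw [pow_succ', pow_succ', Subgroup.coe_mul, Subgroup.coe_mul, mul_smul, mul_smul, ih]
          exact hxy _ (orb_mem (pow_mem hy j))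
      rw [e1, agreePow (hNR a n.2 g hg) (pow_mem hg m) hm i, agreePow hh (pow_mem hg i) hi m,
        ← pow_mul, ← pow_mul, mul_comm]
    choose m hm using hmult
    let D : ℕ → M → M := fun j h => (h ^ j)⁻¹ * (a * h * a⁻¹)
    have hD : ∀ j {h}, h ∈ RM → D j h ∈ RM := fun j h hh =>
      mul_mem (inv_mem (pow_mem hh j)) (hNR a n.2 h hh)
    have hDiff : ∀ j {h : M} {v}, ∀ (hv : v ∉ F), h ∈ RM →
        (((D j h : M) : H) • v = v ↔ ((h : H) • v = v ∨ m v hv ≡ j [MOD r])) := by
      intro j h v hv hh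
      rw [show ((D j h : M) : H) • v = ((h ^ j : M) : H)⁻¹ • ((a * h * a⁻¹ : M) : H) • v by
        simp only [D, Subgroup.coe_mul, Subgroup.coe_inv, mul_smul], hm v hv h hh, inv_smul_eq_iff, coeM, coeM]
      constructor
      · intro e
        by_cases hhv : (h : H) • v = v
        · exact Or.inl hhv
        · exact Or.inr (hexp hh hv hhv e)
      · rintro (e | e)
        · have : ∀ i : ℕ, (h : H) ^ i • v = v := fun i =>
            MulAction.mem_stabilizer_iff.mp (pow_mem (MulAction.mem_stabilizer_iff.mpr e) i)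
          rw [this, this]
        · rw [← coeM, ← coeM, hmodpow hh e]
    have hfixD : ∀ {v} (hv : v ∉ F) {h : M}, h ∈ RM → ∀ u ∈ Orb v, ((D (m v hv) h : M) : H) • u = u :=
      fun hv h hh u hu => hstab (hD _ hh) ((hDiff _ hv hh).mpr (Or.inr rfl)) u hu
    have uni : ∀ v (hv : v ∉ F) w (hw : w ∉ F), m w hw ≡ m v hv [MOD r] := by
      intro v hv w hw
      by_contra hne
      -- an element moving both
      obtain ⟨h, hh, hhv, hhw⟩ : ∃ h ∈ RM, ((h : M) : H) • v ≠ v ∧ ((h : M) : H) • w ≠ w := by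
        obtain ⟨g, hg, hgv⟩ := mover hv
        obtain ⟨b, hb, hbw⟩ := mover hw
        by_cases hgw : ((g : M) : H) • w = w
        · by_cases hbv : ((b : M) : H) • v = v
          · refine ⟨g * b, mul_mem hg hb, ?_, ?_⟩
            · rw [Subgroup.coe_mul, mul_smul, hbv]; exact hgv
            · rw [Subgroup.coe_mul, mul_smul]
              intro e
              exact hbw (MulAction.injective ((g : M) : H) (e.trans hgw.symm))
          · exact ⟨b, hb, hbv, hbw⟩
        · exact ⟨g, hg, hgv, hgw⟩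
      have hx := hD (m v hv) hh
      have hxw : ((D (m v hv) h : M) : H) • w ≠ w := fun e =>
        ((hDiff _ hw hh).mp e).elim hhw hne
      have hwO : w ∉ Orb v := fun e => hxw (hfixD hv hh w e)
      obtain ⟨u, hu, huw, hxu⟩ := nosingle hx hw hxw
      have huv : u ∉ Orb v := fun e => hxu (hfixD hv hh u e)
      have hcover : ∀ z, z ∉ F → z ∈ Orb v ∨ z ∈ Orb w ∨ z ∈ Orb u := by
        intro z hz
        by_contra hcon
        simp only [not_or] at hcon
        have hd : ∀ {x y}, y ∉ Orb x → Disjoint (Orb x) (Orb y) := fun {x y} hxy =>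
          Finset.disjoint_left.mpr fun o h1 h2 => hxy ((orb_eq h1).symm.trans (orb_eq h2) ▸ self_orb y)
        have hsub : Orb v ∪ Orb w ∪ Orb u ∪ Orb z ⊆ Finset.univ \ F :=
          Finset.union_subset (Finset.union_subset (Finset.union_subset (orb_sub hv) (orb_sub hw)) (orb_sub hu)) (orb_sub hz)
        have hle := Finset.card_le_card hsub
        rw [hcompl, Finset.card_union_of_disjoint, Finset.card_union_of_disjoint,
          Finset.card_union_of_disjoint (hd hwO), orbCard hv, orbCard hw, orbCard hu, orbCard hz] at hle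
        · have := Nat.mul_le_mul_right r hc3
          have := hr.pos
          omega
        · exact Finset.disjoint_union_left.mpr ⟨hd huv, hd huw⟩
        · exact Finset.disjoint_union_left.mpr ⟨Finset.disjoint_union_left.mpr ⟨hd hcon.1, hd hcon.2.1⟩, hd hcon.2.2⟩
      by_cases hy : m u hu ≡ m w hw [MOD r]
      · have hz : ((D (m w hw) h : M) : H) • v ≠ v := fun e =>
          ((hDiff _ hv hh).mp e).elim hhv fun e => hne e.symm
        obtain ⟨z, hz1, hz2, hz3⟩ := nosingle (hD _ hh) hv hz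
        rcases hcover z hz1 with h1 | h1 | h1
        · exact hz2 h1
        · exact hz3 (hfixD hw hh z h1)
        · exact hz3 (hstab (hD _ hh) ((hDiff _ hu hh).mpr (Or.inr hy)) z h1)
      · have hyu : ((D (m w hw) (D (m v hv) h) : M) : H) • u ≠ u := fun e =>
          ((hDiff _ hu hx).mp e).elim hxu hy
        obtain ⟨z, hz1, hz2, hz3⟩ := nosingle (hD _ hx) hu hyu
        rcases hcover z hz1 with h1 | h1 | h1
        · exact hz3 (hstab (hD _ hx) ((hDiff _ hv hx).mpr (Or.inl (hfixD hv hh v (self_orb v)))) z h1)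
        · exact hz3 (hfixD hw hx z h1)
        · exact hz2 h1
    intro h hh n'
    obtain ⟨v, hv⟩ : ∃ v, v ∉ F := by
      obtain ⟨v, hv⟩ := Finset.card_pos.mp (show 0 < (Finset.univ \ F).card by
        rw [hcompl]; exact Nat.mul_pos (by omega) hr.pos)
      exact ⟨v, (Finset.mem_sdiff.mp hv).2⟩
    have hsc : ∀ g ∈ RM, a * g * a⁻¹ = g ^ m v hv := fun g hg =>
      hext (hNR a n.2 g hg) (pow_mem hg _) fun w hw => by
        rw [hm w hw g hg, hmodpow hg (uni v hv w hw)]
    set b := (n' : M)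
    show Commute (a * b * a⁻¹ * b⁻¹) h
    have hconj : ∀ x ∈ RM, ∀ {y : M}, y ∈ N → y⁻¹ * x * y ∈ RM := fun x hx y hy => by
      have := hNR y⁻¹ (inv_mem hy) x hx
      rwa [inv_inv] at this
    set c' := b * a * b⁻¹ with hc'
    have hc'sc : ∀ x ∈ RM, c' * x * c'⁻¹ = x ^ m v hv := by
      intro x hx
      calc c' * x * c'⁻¹ = b * (a * (b⁻¹ * x * b) * a⁻¹) * b⁻¹ := by rw [hc']; group
        _ = b * (b⁻¹ * x * b) ^ m v hv * b⁻¹ := by rw [hsc _ (hconj x hx n'.2)]
        _ = (b * (b⁻¹ * x * b) * b⁻¹) ^ m v hv := (conj_pow).symm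
        _ = x ^ m v hv := by congr 1; group
    have h1 : c'⁻¹ * h * c' ∈ RM := hconj h hh (mul_mem (mul_mem n'.2 n.2) (inv_mem n'.2))
    have e : (a * b * a⁻¹ * b⁻¹) * h * (a * b * a⁻¹ * b⁻¹)⁻¹ = h := by
      calc _ = a * (c'⁻¹ * h * c') * a⁻¹ := by rw [hc']; group
        _ = (c'⁻¹ * h * c') ^ m v hv := hsc _ h1
        _ = c' * (c'⁻¹ * h * c') * c'⁻¹ := (hc'sc _ h1).symm
        _ = h := by group
    exact mul_inv_eq_iff_eq_mul.mp e
  -- an element of the kernel with prescribed action on the chosen points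
  have main : ∀ n n' : N, π n = 1 → (φ (n * n' * n⁻¹ * n'⁻¹ : N).1) ^ r ≠ 1 →
      ∃ g : H, (∀ v, v ∉ F → g • v = v) ∧
        ∀ i, g • s i = s (((φ (n * n' * n⁻¹ * n'⁻¹ : N).1) ^ r) i) := by
    intro n n' hn _
    set y : N := n * n' * n⁻¹ * n'⁻¹ with hy
    have hy1 : π y = 1 := by simp [hy, hn]
    refine ⟨((y : M) : H) ^ r, fun v hv => ?_, fun i => ?_⟩
    · obtain ⟨h, hh, hyv⟩ := mem_orb (hπ y hy1 v hv)
      have hcomm : ∀ j : ℕ, ((y : M) : H) ^ j • v = ((h : M) : H) ^ j • v := by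
        intro j
        induction j with
        | zero => simp
        | succ j ih =>
          have hc : ((y : M) : H) * ((h : M) : H) ^ j = ((h : M) : H) ^ j * ((y : M) : H) :=
            (Commute.pow_right (congrArg (fun x : M => (x : H)) (scalar n hn h hh n').eq : Commute ((y : M) : H) (h : H)) j).eq
          rw [pow_succ', mul_smul, ih, ← mul_smul, hc, mul_smul, ← hyv, pow_succ, mul_smul]
      rw [hcomm, ← coeM, hr1 hh, OneMemClass.coe_one, one_smul]
    · rw [← Subgroup.coe_pow, hφ, map_pow]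
  -- commutative or small image of the action on the orbits
  let eQ : Q ≃ Fin c := Fintype.equivFinOfCardEq hQ
  rcases hck with ⟨rfl, rfl⟩ | ⟨rfl, rfl⟩
  · -- three fixed points: a three cycle
    obtain ⟨n₃, hn₃, hφ₃⟩ := hNimg (finRotate 3)
    obtain ⟨n₂, hn₂, hφ₂⟩ := hNimg (Equiv.swap 0 1)
    have hsq : ∀ e : Equiv.Perm (Fin 2), e * e = 1 := by decide
    have hn : π ((⟨n₃, hn₃⟩ : N) * ⟨n₃, hn₃⟩) = 1 := by
      apply eQ.permCongrHom.injective
      rw [map_mul, map_mul, map_one, hsq]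
    have hσ : φ ((((⟨n₃, hn₃⟩ : N) * ⟨n₃, hn₃⟩) * ⟨n₂, hn₂⟩ * ((⟨n₃, hn₃⟩ : N) * ⟨n₃, hn₃⟩)⁻¹ *
        (⟨n₂, hn₂⟩ : N)⁻¹ : N) : M) = finRotate 3 := by
      simp only [Subgroup.coe_mul, Subgroup.coe_inv, map_mul, map_inv, hφ₃, hφ₂]
      decide
    have h3 : (finRotate 3 : Equiv.Perm (Fin 3)) ^ r ≠ 1 := by
      rw [ne_eq, ← orderOf_dvd_iff_pow_eq_one, show orderOf (finRotate 3) = 3 from
        orderOf_eq_prime (p := 3) (by decide) (by decide)]
      intro hd
      have := (Nat.prime_dvd_prime_iff_eq Nat.prime_three hr).mp hd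
      omega
    obtain ⟨g, hg1, hg2⟩ := main _ _ hn (by rw [hσ]; exact h3)
    refine hno (PermGp.alternating_le_of_small_support inferInstance g.2 ?_ ?_)
    · intro e
      obtain ⟨i, hi⟩ : ∃ i, ((finRotate 3 : Equiv.Perm (Fin 3)) ^ r) i ≠ i := by
        by_contra hall; push Not at hall; exact h3 (Equiv.ext hall)
      have := hg2 i
      rw [hσ, Subgroup.smul_def, e, one_smul] at this
      exact hi (s.injective this).symm
    · refine (Finset.card_le_card (t := F) fun v hv => ?_).trans hFcard.le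
      by_contra hvF
      exact (Equiv.Perm.mem_support.mp hv) (hg1 v hvF)
  · -- four fixed points: a double transposition
    obtain ⟨a₁, ha₁, hφa⟩ := hNimg (Equiv.swap 0 1)
    obtain ⟨b₁, hb₁, hφb⟩ := hNimg (Equiv.swap 0 2)
    obtain ⟨d₁, hd₁, hφd⟩ := hNimg (Equiv.swap 0 3)
    let A : N := ⟨a₁, ha₁⟩
    let B : N := ⟨b₁, hb₁⟩
    let D : N := ⟨d₁, hd₁⟩
    have hcc : ∀ x y z : Equiv.Perm (Fin 3),
        (x * y * x⁻¹ * y⁻¹) * (x * z * x⁻¹ * z⁻¹) * (x * y * x⁻¹ * y⁻¹)⁻¹ * (x * z * x⁻¹ * z⁻¹)⁻¹ = 1 := by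
      decide +kernel
    set K : N := (A * B * A⁻¹ * B⁻¹) * (A * D * A⁻¹ * D⁻¹) * (A * B * A⁻¹ * B⁻¹)⁻¹ * (A * D * A⁻¹ * D⁻¹)⁻¹ with hK
    have hn : π K = 1 := by
      apply eQ.permCongrHom.injective
      simp only [hK, map_mul, map_inv, map_one]
      exact hcc _ _ _
    have key : ∃ n' : N, (φ (K * n' * K⁻¹ * n'⁻¹ : N).1) ≠ 1 ∧ (φ (K * n' * K⁻¹ * n'⁻¹ : N).1) ^ 2 = 1 := by
      have hA : φ A.1 = Equiv.swap 0 1 := hφa
      have hB : φ B.1 = Equiv.swap 0 2 := hφb
      have hD : φ D.1 = Equiv.swap 0 3 := hφd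
      first
        | (refine ⟨A, ?_, ?_⟩ <;> simp only [hK, Subgroup.coe_mul, Subgroup.coe_inv, map_mul, map_inv, hA, hB, hD] <;> decide +kernel)
        | (refine ⟨B, ?_, ?_⟩ <;> simp only [hK, Subgroup.coe_mul, Subgroup.coe_inv, map_mul, map_inv, hA, hB, hD] <;> decide +kernel)
    obtain ⟨n', hne, hinvol⟩ := key
    set σ := φ (K * n' * K⁻¹ * n'⁻¹ : N).1 with hσ
    have hσr : σ ^ r = σ := by
      obtain ⟨t, ht⟩ := hr.odd_of_ne_two (by omega)
      rw [ht, pow_succ, pow_mul, hinvol, one_pow, one_mul]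
    obtain ⟨g, hg1, hg2⟩ := main K n' hn (by rw [← hσ, hσr]; exact hne)
    rw [← hσ, hσr] at hg2
    obtain ⟨w, hwF⟩ : ∃ w, w ∉ F := by
      obtain ⟨w, hw⟩ := Finset.card_pos.mp (show 0 < (Finset.univ \ F).card by
        rw [hcompl]; exact Nat.mul_pos (by omega) hr.pos)
      exact ⟨w, (Finset.mem_sdiff.mp hw).2⟩
    -- a point `i` and its image `σ i` are kept, a third point is kept and the last one is moved
    obtain ⟨i, j, l, hij, hil, hjl, hji, hll⟩ : ∃ i j l : Fin 4, i ≠ j ∧ i ≠ l ∧ j ≠ l ∧ σ i = j ∧ σ l ≠ l := by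
      have : ∀ τ : Equiv.Perm (Fin 4), τ ≠ 1 → τ ^ 2 = 1 → (∀ i, τ i ≠ i) →
          ∃ i j l : Fin 4, i ≠ j ∧ i ≠ l ∧ j ≠ l ∧ τ i = j ∧ τ l ≠ l := by decide +kernel
      refine this σ hne hinvol fun i hi => hno ?_
      refine PermGp.alternating_le_of_small_support inferInstance g.2 ?_ ?_
      · intro e
        apply hne
        refine Equiv.ext fun j => s.injective ?_
        rw [← hg2, Subgroup.smul_def, e, one_smul]; rfl
      · refine (Finset.card_le_card (t := F.erase (s i)) fun v hv => ?_).trans ?_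
        · refine Finset.mem_erase.mpr ⟨fun e => ?_, ?_⟩
          · apply Equiv.Perm.mem_support.mp hv
            rw [e]
            have := hg2 i
            rwa [hi] at this
          · by_contra hvF
            exact (Equiv.Perm.mem_support.mp hv) (hg1 v hvF)
        · rw [Finset.card_erase_of_mem (memF.mpr ⟨i, rfl⟩), hFcard]
    set l' := σ l
    have hl'i : l' ≠ i := fun e => hjl (by
      have h2 : σ (σ l) = l := by rw [← Equiv.Perm.mul_apply, ← pow_two, hinvol]; rfl
      rw [show σ l = i from e, hji] at h2; exact h2)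
    have hl'j : l' ≠ j := fun e => hil (σ.injective (hji.trans e.symm))
    haveI h4 : IsMultiplyPretransitive H Ω 4 := isMultiplyPretransitive_of_le (n := 5) (by omega)
      (by rw [Nat.card_eq_fintype_card]; omega)
    have inj : ∀ {x}, x ≠ s i → x ≠ s j → x ≠ s l → Function.Injective ![s i, s j, s l, x] := by
      intro x e1 e2 e3 u v h
      fin_cases u <;> fin_cases v <;> first
        | rfl
        | exact (hij (s.injective h)).elim
        | exact (hij (s.injective h).symm).elim
        | exact (hil (s.injective h)).elim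
        | exact (hil (s.injective h).symm).elim
        | exact (hjl (s.injective h)).elim
        | exact (hjl (s.injective h).symm).elim
        | exact (e1 h).elim
        | exact (e1 h.symm).elim
        | exact (e2 h).elim
        | exact (e2 h.symm).elim
        | exact (e3 h).elim
        | exact (e3 h.symm).elim
    obtain ⟨k, hk'⟩ := exists_smul_eq H
      (⟨![s i, s j, s l, s l'], inj (fun e => hl'i (s.injective e)) (fun e => hl'j (s.injective e))
        (fun e => hll (s.injective e))⟩ : Fin 4 ↪ Ω)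
      ⟨![s i, s j, s l, w], inj (fun e => hwF (memF.mpr ⟨i, e.symm⟩)) (fun e => hwF (memF.mpr ⟨j, e.symm⟩))
        (fun e => hwF (memF.mpr ⟨l, e.symm⟩))⟩
    have hkk : ∀ u, k • ![s i, s j, s l, s l'] u = ![s i, s j, s l, w] u := fun u =>
      congrArg (fun e : Fin 4 ↪ Ω => e u) hk'
    have ki : k • s i = s i := hkk 0
    have kj : k • s j = s j := hkk 1
    have kl : k • s l = s l := hkk 2
    have kl' : k • s l' = w := hkk 3
    have hσj : σ j = i := by
      rw [← hji, ← Equiv.Perm.mul_apply, ← pow_two, hinvol]; rfl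
    refine hno (PermGp.alternating_le_of_small_support inferInstance (g * (k * g * k⁻¹) : H).2 ?_ ?_)
    · intro e
      have e' : g * (k * g * k⁻¹) = 1 := Subtype.ext e
      have := congrArg (fun x : H => x • s l) e'
      simp only [mul_smul, one_smul, inv_smul_eq_iff.mpr kl.symm, hg2, show σ l = l' from rfl, kl', hg1 w hwF] at this
      exact hwF (memF.mpr ⟨l, this.symm⟩)
    · refine (Finset.card_le_card (t := {s l, s l', w}) fun v hv => ?_).trans Finset.card_le_three
      by_contra hout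
      simp only [Finset.mem_insert, Finset.mem_singleton, not_or] at hout
      obtain ⟨o1, o2, o3⟩ := hout
      apply Equiv.Perm.mem_support.mp hv
      show (g * (k * g * k⁻¹)) • v = v
      have hall : ∀ u : Fin 4, u = i ∨ u = j ∨ u = l ∨ u = l' := by
        have : ∀ a b c d : Fin 4, a ≠ b → a ≠ c → b ≠ c → d ≠ a → d ≠ b → d ≠ c →
            ∀ u, u = a ∨ u = b ∨ u = c ∨ u = d := by decide +kernel
        exact this i j l l' hij hil hjl hl'i hl'j hll
      by_cases hvF : v ∈ F
      · obtain ⟨u, rfl⟩ := memF.mp hvF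
        rcases hall u with rfl | rfl | rfl | rfl
        · simp only [mul_smul, inv_smul_eq_iff.mpr ki.symm, hg2, hji, kj, hσj]
        · simp only [mul_smul, inv_smul_eq_iff.mpr kj.symm, hg2, hji, ki, hσj]
        · exact absurd rfl o1
        · exact absurd rfl o2
      · have hku : k⁻¹ • v ∉ F := by
          intro h
          obtain ⟨u, hu⟩ := memF.mp h
          have hv' : v = k • s u := by rw [hu, smul_inv_smul]
          rcases hall u with rfl | rfl | rfl | rfl
          · exact hvF (memF.mpr ⟨u, (hv'.trans ki).symm⟩)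
          · exact hvF (memF.mpr ⟨u, (hv'.trans kj).symm⟩)
          · exact o1 (hv'.trans kl)
          · exact o3 (hv'.trans kl')
        simp only [mul_smul, hg1 _ hku, smul_inv_smul, hg1 v hvF]

end Cfsg.Agent.PrimeDegreePairs
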