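import Cfsg.Agent.Lib.Recog.PrimeDegreePairs.Divisor
import Mathlib.NumberTheory.LegendreSymbol.AddCharacter
import Mathlib.RingTheory.Polynomial.Cyclotomic.Roots
import Mathlib.RingTheory.RootsOfUnity.Complex
import Mathlib.RingTheory.IntegralClosure.IntegrallyClosed
import Mathlib.NumberTheory.ArithmeticFunction.Moebius

/-!
# Strongly regular bicirculants with an inverting automorphism

The first part of a strongly regular Cayley graph on a dihedral group of order `2 r`, `r` odd, is
a subgroup without the identity, unless the second part is trivial.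
-/

set_option autoImplicit false

namespace Cfsg.Agent.PrimeDegreePairs

open Polynomial

theorem bicirculant {r : ℕ} [NeZero r] (hr : Odd r) (a c : ZMod r → ℤ) (k L μ : ℤ)
    (ha01 : ∀ i, a i = 0 ∨ a i = 1) (hasym : ∀ i, a (-i) = a i)
    (hagen : a 1 = 0)
    (e1 : ∀ j, ∑ i, a i * a (i - j) + ∑ i, c i * c (i - j) =
      μ + (if j = 0 then k - μ else 0) + L * a j)
    (e2 : ∀ j, 2 * ∑ i, a i * c (j - i) = μ + L * c j) :
    (∀ x y, c x = c y) ∨
      ∃ N ∈ r.divisors, (N < r ∨ r = 1) ∧ ∀ x : ZMod r, x ≠ 0 → (a x = 1 ↔ N • x = 0) := by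
  classical
  have hr0 : r ≠ 0 := NeZero.ne r
  have hζ := Complex.isPrimitiveRoot_exp r hr0
  set ζ := Complex.exp (2 * Real.pi * Complex.I / r)
  let ψ : AddChar (ZMod r) ℂ := AddChar.zmodChar r hζ.pow_eq_one
  have hψ : ∀ n : ℕ, ψ (n : ZMod r) = ζ ^ n := fun n => AddChar.zmodChar_apply' _ n
  have hψp : ψ.IsPrimitive := AddChar.zmodChar_primitive_of_primitive_root r hζ
  have orth : ∀ b : ZMod r, ∑ m, ψ (m * b) = if b = 0 then (r : ℂ) else 0 := fun b => by
    rw [AddChar.sum_mulShift b hψp]; simp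
  let V : (ZMod r → ℤ) → ZMod r → ℂ := fun f m => ∑ i, (f i : ℂ) * ψ (i * m)
  have hinv : ∀ (f : ZMod r → ℤ) x, (r : ℂ) * f x = ∑ m, V f m * ψ (-(m * x)) := by
    intro f x
    simp only [V, Finset.sum_mul]
    rw [Finset.sum_comm]
    calc (r : ℂ) * f x = ∑ i, (f i : ℂ) * ∑ m, ψ (m * (i - x)) := by
          simp only [orth, sub_eq_zero, mul_ite, mul_zero, Finset.sum_ite_eq', Finset.mem_univ, if_true]
          ring
      _ = _ := by
          refine Finset.sum_congr rfl fun i _ => ?_
          rw [Finset.mul_sum]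
          refine Finset.sum_congr rfl fun m _ => ?_
          rw [mul_assoc, ← AddChar.map_add_eq_mul]
          congr 2; ring
  have hVsym : ∀ m, V a (-m) = V a m := fun m => by
    refine Fintype.sum_equiv (Equiv.neg _) _ _ fun i => ?_
    simp [hasym]
  have conv : ∀ (f g : ZMod r → ℤ) m,
      ∑ j, ((∑ i, f i * g (i - j) : ℤ) : ℂ) * ψ (j * m) = V f m * V g (-m) := by
    intro f g m
    simp only [V, Int.cast_sum, Int.cast_mul, Finset.sum_mul, Finset.mul_sum]
    rw [Finset.sum_comm]
    conv_rhs => rw [Finset.sum_comm]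
    refine Finset.sum_congr rfl fun i _ => Fintype.sum_equiv (Equiv.subLeft i) _ _ fun j => ?_
    simp only [Equiv.subLeft_apply]
    rw [show j * m = i * m + (i - j) * -m by ring, AddChar.map_add_eq_mul]
    ring
  have hsum1 : ∀ m : ZMod r, ∑ j, ψ (j * m) = if m = 0 then (r : ℂ) else 0 := orth
  have q1 : ∀ m, V a m * V a m + V c m * V c (-m) =
      (μ : ℂ) * (if m = 0 then (r : ℂ) else 0) + (k - μ : ℂ) + L * V a m := by
    intro m
    conv_lhs => enter [1, 2]; rw [← hVsym m]
    rw [← conv a a m, ← conv c c m, ← Finset.sum_add_distrib, ← hsum1, Finset.mul_sum]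
    have : ((k - μ : ℤ) : ℂ) = ∑ j : ZMod r, ((if j = 0 then k - μ else 0 : ℤ) : ℂ) * ψ (j * m) := by
      simp [apply_ite (Int.cast : ℤ → ℂ), ite_mul]
    rw [← Int.cast_sub, this]
    simp only [V, Finset.mul_sum, ← Finset.sum_add_distrib]
    refine Finset.sum_congr rfl fun j _ => ?_
    rw [← add_mul, ← Int.cast_add, e1]
    push_cast; ring
  have q2 : ∀ m, 2 * (V a m * V c m) = (μ : ℂ) * (if m = 0 then (r : ℂ) else 0) + L * V c m := by
    intro m
    have h : V a m * V c m = ∑ j, ((∑ i, a i * c (j - i) : ℤ) : ℂ) * ψ (j * m) := by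
      simp only [V, Int.cast_sum, Int.cast_mul, Finset.sum_mul, Finset.mul_sum]
      rw [Finset.sum_comm]
      conv_rhs => rw [Finset.sum_comm]
      refine Finset.sum_congr rfl fun i _ => Fintype.sum_equiv (Equiv.addLeft i) _ _ fun j => ?_
      simp only [Equiv.coe_addLeft, add_sub_cancel_left]
      rw [add_mul, AddChar.map_add_eq_mul]
      ring
    rw [h, ← hsum1, Finset.mul_sum, Finset.mul_sum]
    simp only [V, Finset.mul_sum, ← Finset.sum_add_distrib]
    refine Finset.sum_congr rfl fun j _ => ?_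
    rw [← mul_assoc, show (2 : ℂ) * ((∑ i, a i * c (j - i) : ℤ) : ℂ) = ((2 * ∑ i, a i * c (j - i) : ℤ) : ℂ) by push_cast; ring, e2]
    push_cast; ring
  by_cases hC : ∀ m, m ≠ 0 → V c m = 0
  · left
    intro x y
    have h : ∀ x, (r : ℂ) * c x = V c 0 := fun x => by
      rw [hinv c x, Finset.sum_eq_single 0 (fun m _ hm => by rw [hC m hm, zero_mul]) (by simp)]
      simp
    have := (h x).trans (h y).symm
    exact_mod_cast mul_left_cancel₀ (Nat.cast_ne_zero.mpr hr0) this
  right
  push Not at hC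
  obtain ⟨m₁, hm₁, hCm₁⟩ := hC
  -- `L` is even
  obtain ⟨e, he⟩ : ∃ e : ℤ, L = 2 * e := by
    have hV : V a m₁ = (L : ℂ) / 2 := by
      have h := q2 m₁
      rw [if_neg hm₁, mul_zero, zero_add, ← mul_assoc] at h
      rw [eq_div_iff (two_ne_zero), mul_comm]
      exact mul_right_cancel₀ hCm₁ h
    have hint : IsIntegral ℤ (V a m₁) := by
      refine IsIntegral.sum _ fun i _ => IsIntegral.mul isIntegral_algebraMap ?_
      rw [← ZMod.natCast_zmod_val (i * m₁), hψ]
      exact (hζ.isIntegral (Nat.pos_of_ne_zero hr0)).pow _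
    rw [hV, show (L : ℂ) / 2 = algebraMap ℚ ℂ ((L : ℚ) / 2) by simp,
      isIntegral_algebraMap_iff (algebraMap ℚ ℂ).injective] at hint
    obtain ⟨z, hz⟩ := IsIntegrallyClosed.isIntegral_iff.mp hint
    refine ⟨z, ?_⟩
    have : ((2 * z : ℤ) : ℚ) = (L : ℚ) := by
      rw [Int.cast_mul, show ((z : ℤ) : ℚ) = algebraMap ℤ ℚ z from rfl, hz]; push_cast; ring
    exact_mod_cast this.symm
  set t : ℤ := ∑ i, a i - ∑ i, c i with ht
  have hV0 : ∀ f : ZMod r → ℤ, V f 0 = ((∑ i, f i : ℤ) : ℂ) := fun f => by simp [V]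
  have hroot : ((t : ℂ)) * t = (k - μ : ℂ) + L * t := by
    have h1 := q1 0
    have h2 := q2 0
    rw [if_pos rfl, neg_zero, hV0, hV0] at h1
    rw [if_pos rfl, hV0, hV0] at h2
    rw [ht]; push_cast at h1 h2 ⊢
    linear_combination h1 - h2
  have hval : ∀ m, m ≠ 0 → ∃ s : ℤ, (s = 0 ∨ s = t - e ∨ s = -(t - e)) ∧ V a m = ((e + s : ℤ) : ℂ) := by
    intro m hm
    have h1 := q1 m
    have h2 := q2 m
    rw [if_neg hm] at h1 h2
    by_cases hc : V c m = 0
    · rw [hc] at h1
      have : (V a m - t) * (V a m + t - L) = 0 := by linear_combination h1 - hroot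
      rcases mul_eq_zero.mp this with h | h
      · exact ⟨t - e, Or.inr (Or.inl rfl), by rw [sub_eq_zero] at h; rw [h]; push_cast; ring⟩
      · refine ⟨-(t - e), Or.inr (Or.inr rfl), ?_⟩
        rw [he] at h; push_cast at h ⊢
        linear_combination h
    · refine ⟨0, Or.inl rfl, ?_⟩
      rw [mul_zero, zero_add, ← mul_assoc, he] at h2
      have := mul_right_cancel₀ hc h2
      push_cast at this ⊢
      linear_combination this / 2
  -- values depend only on the greatest common divisor with `r`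
  have hgal : ∀ m : ZMod r, m ≠ 0 → V a m = V a ((Nat.gcd m.val r : ℕ) : ZMod r) := by
    intro m hm
    set g := Nat.gcd m.val r with hg
    have hg0 : g ≠ 0 := Nat.gcd_ne_zero_right hr0
    have hgr : g ∣ r := Nat.gcd_dvd_right _ _
    have hmv : m.val ≠ 0 := fun h => hm ((ZMod.val_eq_zero m).mp h)
    have hglt : g < r := lt_of_le_of_lt (Nat.gcd_le_left _ (Nat.pos_of_ne_zero hmv)) (ZMod.val_lt m)
    have hgm : ((g : ℕ) : ZMod r) ≠ 0 := by
      rw [ne_eq, ZMod.natCast_eq_zero_iff]
      intro h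
      have := Nat.le_of_dvd (Nat.pos_of_ne_zero hg0) h
      omega
    obtain ⟨s, -, hs⟩ := hval _ hgm
    let P : ℚ[X] := ∑ i : ZMod r, C (a i : ℚ) * X ^ i.val - C ((e + s : ℤ) : ℚ)
    have heval : ∀ n : ℕ, Polynomial.aeval (ζ ^ n) P = V a (n : ZMod r) - ((e + s : ℤ) : ℂ) := by
      intro n
      simp only [P, map_sub, map_sum, map_mul, aeval_C, map_pow, aeval_X, V]
      congr 1
      · refine Finset.sum_congr rfl fun i _ => ?_
        rw [← pow_mul, mul_comm n, ← hψ, Nat.cast_mul, ZMod.natCast_zmod_val]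
        simp
    have hprim := hζ.pow_of_dvd hg0 hgr
    obtain ⟨u, hu⟩ : g ∣ m.val := Nat.gcd_dvd_left _ _
    have hcop : Nat.Coprime u (r / g) := by
      have h := Nat.coprime_div_gcd_div_gcd (m := m.val) (n := r) (Nat.pos_of_ne_zero hg0)
      rwa [← hg, hu, Nat.mul_div_cancel_left _ (Nat.pos_of_ne_zero hg0)] at h
    have hprim' := hprim.pow_of_coprime u hcop
    rw [← pow_mul, ← hu] at hprim'
    have hposd : 0 < r / g := Nat.div_pos (Nat.le_of_dvd (Nat.pos_of_ne_zero hr0) hgr) (Nat.pos_of_ne_zero hg0)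
    have hdvd : minpoly ℚ (ζ ^ g) ∣ P := minpoly.dvd ℚ _ (by rw [heval, hs, sub_self])
    rw [← cyclotomic_eq_minpoly_rat hprim hposd, cyclotomic_eq_minpoly_rat hprim' hposd] at hdvd
    have h0 : Polynomial.aeval (ζ ^ m.val) P = 0 :=
      Polynomial.aeval_eq_zero_of_dvd_aeval_eq_zero hdvd (minpoly.aeval ℚ _)
    rw [heval, ZMod.natCast_zmod_val, sub_eq_zero] at h0
    rw [h0, hs]
  let a' : ZMod r → ℤ := fun i => a i - if i = 0 then e else 0
  have hV' : ∀ m, V a' m = V a m - e := fun m => by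
    simp [V, a', sub_mul, Finset.sum_sub_distrib, apply_ite (Int.cast : ℤ → ℂ), ite_mul]
  have hvex : ∀ M : ℕ, ∃ z : ℤ, (M ∈ r.divisors → V a' (M : ZMod r) = (z : ℂ)) ∧
      (M ∈ r.divisors → M < r → z = 0 ∨ z = t - e ∨ z = -(t - e)) := by
    intro M
    by_cases hM : M ∈ r.divisors
    · by_cases hMr : M < r
      · have hM0 : (M : ZMod r) ≠ 0 := by
          rw [ne_eq, ZMod.natCast_eq_zero_iff]
          intro h
          have := Nat.le_of_dvd (Nat.pos_of_mem_divisors hM) h
          omega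
        obtain ⟨s, hs, hVs⟩ := hval _ hM0
        exact ⟨s, fun _ => by rw [hV', hVs]; push_cast; ring, fun _ _ => hs⟩
      · refine ⟨∑ i, a' i, fun _ => ?_, fun _ h => absurd h hMr⟩
        have : M = r := le_antisymm (Nat.le_of_dvd (Nat.pos_of_ne_zero hr0) (Nat.dvd_of_mem_divisors hM)) (not_lt.mp hMr)
        rw [this, ZMod.natCast_self, hV0]
    · exact ⟨0, fun h => absurd h hM, fun h => absurd h hM⟩
  choose v hvV hv3 using hvex
  let B : ℕ → ℤ := fun M => ∑ x ∈ M.divisorsAntidiagonal, ArithmeticFunction.moebius x.1 • v x.2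
  have hB : ∀ M, 0 < M → ∑ d ∈ M.divisors, B d = v M :=
    ArithmeticFunction.sum_eq_iff_sum_smul_moebius_eq.mpr (fun M _ => rfl)
  have hVB : ∀ m : ZMod r, V a' m =
      ((∑ d ∈ r.divisors.filter (fun d => d ∣ m.val), B d : ℤ) : ℂ) := by
    intro m
    have hg : ∀ d, (d ∈ r.divisors ∧ d ∣ m.val) ↔ d ∈ (Nat.gcd m.val r).divisors := fun d => by
      rw [Nat.mem_divisors, Nat.mem_divisors, Nat.dvd_gcd_iff]
      simp [hr0, Nat.gcd_ne_zero_right hr0, and_comm]
    have hset : r.divisors.filter (fun d => d ∣ m.val) = (Nat.gcd m.val r).divisors := by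
      ext d; rw [Finset.mem_filter]; exact hg d
    have hgm : Nat.gcd m.val r ∈ r.divisors := Nat.mem_divisors.mpr ⟨Nat.gcd_dvd_right _ _, hr0⟩
    rw [hset, hB _ (Nat.pos_of_mem_divisors hgm), ← hvV _ hgm]
    by_cases hm : m = 0
    · subst hm; simp
    · rw [hV', hV', hgal m hm]
  have key : ∀ x : ZMod r, (r : ℤ) * a' x =
      ∑ d ∈ r.divisors.filter (fun d => addOrderOf x ∣ d), B d * ((r / d : ℕ) : ℤ) := by
    intro x
    apply Int.cast_injective (α := ℂ)
    rw [Int.cast_mul, Int.cast_natCast, hinv a' x]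
    simp only [hVB, Finset.sum_filter, Int.cast_sum, Finset.sum_mul]
    rw [Finset.sum_comm]
    refine Finset.sum_congr rfl fun d hd => ?_
    have hdr := Nat.dvd_of_mem_divisors hd
    have hd0 := Nat.pos_of_mem_divisors hd
    have himg : (Finset.univ.filter fun m : ZMod r => d ∣ m.val) =
        (Finset.range (r / d)).image (fun i => ((d * i : ℕ) : ZMod r)) := by
      ext m
      simp only [Finset.mem_filter, Finset.mem_univ, true_and, Finset.mem_image, Finset.mem_range]
      constructor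
      · rintro ⟨i, hi⟩
        refine ⟨i, ?_, by rw [← hi, ZMod.natCast_zmod_val]⟩
        have := ZMod.val_lt m
        rw [hi, ← Nat.mul_div_cancel' hdr] at this
        exact Nat.lt_of_mul_lt_mul_left this
      · rintro ⟨i, hi, rfl⟩
        rw [ZMod.val_natCast, Nat.mod_eq_of_lt]
        · exact dvd_mul_right d i
        · rw [← Nat.mul_div_cancel' hdr]; exact Nat.mul_lt_mul_of_pos_left hi hd0
    calc ∑ m : ZMod r, ((if d ∣ m.val then B d else 0 : ℤ) : ℂ) * ψ (-(m * x))
        = (B d : ℂ) * ∑ m ∈ Finset.univ.filter (fun m : ZMod r => d ∣ m.val), ψ (-(m * x)) := by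
          rw [Finset.mul_sum, Finset.sum_filter]
          refine Finset.sum_congr rfl fun m _ => ?_
          split <;> simp
      _ = (B d : ℂ) * ∑ i ∈ Finset.range (r / d), ψ (-((d : ZMod r) * x)) ^ i := by
          rw [himg, Finset.sum_image]
          · congr 1
            refine Finset.sum_congr rfl fun i _ => ?_
            rw [← AddChar.map_nsmul_eq_pow]
            congr 1
            push_cast; rw [nsmul_eq_mul]; ring
          · intro i hi j hj h
            simp only [Finset.coe_range, Set.mem_Iio] at hi hj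
            have h' := congrArg ZMod.val h
            rw [ZMod.val_natCast, ZMod.val_natCast, Nat.mod_eq_of_lt, Nat.mod_eq_of_lt] at h'
            · exact Nat.eq_of_mul_eq_mul_left hd0 h'
            · rw [← Nat.mul_div_cancel' hdr]; exact Nat.mul_lt_mul_of_pos_left hj hd0
            · rw [← Nat.mul_div_cancel' hdr]; exact Nat.mul_lt_mul_of_pos_left hi hd0
      _ = _ := by
          by_cases hx : addOrderOf x ∣ d
          · have hdx : (d : ZMod r) * x = 0 := by
              rw [← nsmul_eq_mul]; exact addOrderOf_dvd_iff_nsmul_eq_zero.mp hx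
            rw [if_pos hx, hdx, neg_zero, AddChar.map_zero_eq_one]
            simp only [one_pow, Finset.sum_const, Finset.card_range, nsmul_eq_mul, mul_one, Int.cast_mul,
              Int.cast_natCast]
          · rw [if_neg hx]
            have hy1 : ψ (-((d : ZMod r) * x)) ≠ 1 := by
              intro h
              apply hx
              rw [addOrderOf_dvd_iff_nsmul_eq_zero, nsmul_eq_mul]
              have hval : ((-((d : ZMod r) * x)).val) = 0 := by
                by_contra hne
                rw [← ZMod.natCast_zmod_val (-((d : ZMod r) * x)), hψ] at h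
                exact hne (Nat.eq_zero_of_dvd_of_lt (hζ.dvd_of_pow_eq_one _ h) (ZMod.val_lt _))
              simpa using (ZMod.val_eq_zero _).mp hval
            have hyp : ψ (-((d : ZMod r) * x)) ^ (r / d) = 1 := by
              rw [← AddChar.map_nsmul_eq_pow, nsmul_eq_mul]
              have : ((r / d : ℕ) : ZMod r) * (-((d : ZMod r) * x)) = 0 := by
                rw [mul_neg, ← mul_assoc, ← Nat.cast_mul, Nat.div_mul_cancel hdr, ZMod.natCast_self, zero_mul, neg_zero]
              rw [this, AddChar.map_zero_eq_one]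
            rw [geom_sum_eq hy1, hyp]
            simp
  let acl : ℕ → ℤ := fun M => a (((r / M : ℕ) : ZMod r))
  have hord : ∀ M ∈ r.divisors, addOrderOf (((r / M : ℕ) : ZMod r)) = M := by
    intro M hM
    rw [ZMod.addOrderOf_coe' _ (Nat.div_pos (Nat.le_of_dvd (Nat.pos_of_ne_zero hr0)
      (Nat.dvd_of_mem_divisors hM)) (Nat.pos_of_mem_divisors hM)).ne',
      Nat.gcd_eq_right (Nat.div_dvd_of_dvd (Nat.dvd_of_mem_divisors hM)),
      Nat.div_div_self (Nat.dvd_of_mem_divisors hM) hr0]
  have ha'eq : ∀ x : ZMod r, x ≠ 0 → a' x = a x := fun x hx => by simp [a', hx]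
  have hM0 : ∀ M ∈ r.divisors, 1 < M → ((r / M : ℕ) : ZMod r) ≠ 0 := fun M hM hM1 h => by
    have := hord M hM
    rw [h, addOrderOf_zero] at this
    omega
  obtain ⟨N, hN, hNlt, hNiff⟩ := class_table r hr acl B (t - e) (fun M _ _ => ha01 _) (by
      simp only [acl]; rw [Nat.div_self (Nat.pos_of_ne_zero hr0), Nat.cast_one]; exact hagen)
    (fun M hM hM1 => by rw [show acl M = a' _ from (ha'eq _ (hM0 M hM hM1)).symm, key, hord M hM])
    (fun M hM hMr => by rw [hB M (Nat.pos_of_mem_divisors hM)]; exact hv3 M hM hMr)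
  refine ⟨N, hN, hNlt, fun x hx => ?_⟩
  have hMd : addOrderOf x ∈ r.divisors := Nat.mem_divisors.mpr ⟨by
    rw [addOrderOf_dvd_iff_nsmul_eq_zero]; simp, hr0⟩
  have hM1 : 1 < addOrderOf x := by
    have h0 : 0 < addOrderOf x := addOrderOf_pos x
    have h1 : addOrderOf x ≠ 1 := fun h => hx (AddMonoid.addOrderOf_eq_one_iff.mp h)
    omega
  have hax : a x = acl (addOrderOf x) := by
    refine mul_left_cancel₀ (Int.natCast_ne_zero.mpr hr0) ?_
    rw [← ha'eq x hx, key, show acl (addOrderOf x) = a' _ from (ha'eq _ (hM0 _ hMd hM1)).symm, key, hord _ hMd]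
  rw [hax, hNiff _ hMd hM1, addOrderOf_dvd_iff_nsmul_eq_zero]

end Cfsg.Agent.PrimeDegreePairs
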