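import Cfsg.Agent.Lib.PermGp.Burnside
import Mathlib.RingTheory.IntegralDomain
import Mathlib.LinearAlgebra.Dimension.Constructions

/-!
# Orbits of two point stabilizers in insoluble groups of prime degree

If the normalizer of a Sylow subgroup induces all squares as multipliers, the irreducibility of the
heart of the permutation module bounds the number of orbits of a two point stabilizer on the other
points by two.
-/

set_option autoImplicit false
set_option linter.unusedSectionVars false
set_option linter.style.haveILetI false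

namespace Cfsg.Agent.PrimeDegreePairs

open MulAction

variable {α : Type*} [Fintype α] [DecidableEq α] {p : ℕ} [hp : Fact p.Prime]
  (hα : Fintype.card α = p) (G : Subgroup (Equiv.Perm α)) [IsPretransitive G α]

include hα

/-- The normalizer induces all square multipliers. -/
theorem squares_induced {P : Sylow p G} {x : G} {e : ZMod p ≃ α}
    (hP : (P : Subgroup G) = Subgroup.zpowers x) (hx : ∀ i, x • e i = e (i + 1))
    (hN : 2 * Nat.card (Subgroup.normalizer ((P : Subgroup G) : Set G)) = p * (p - 1))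
    (s : ZMod p) (hs : s ≠ 0) : ∃ g : G, ∀ i, g • e i = e (s ^ 2 * i) := by
  classical
  set N := Subgroup.normalizer ((P : Subgroup G) : Set G) with hNdef
  have hxN : x ∈ N := by
    apply Subgroup.le_normalizer
    rw [hP]; exact Subgroup.mem_zpowers x
  let M : Subgroup G := N ⊓ stabilizer G (e 0)
  have hM : ∀ g : M, ∃ k : (ZMod p)ˣ, ∀ i, (g : G) • e i = e ((k : ZMod p) * i) := by
    rintro ⟨g, hg, hg0⟩
    obtain ⟨k, b, hk0, hgb⟩ := PermGp.normalizer_affine hα G hP hx hg
    have hb : b = 0 := by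
      have h := hgb 0
      rw [show g • e 0 = e 0 from hg0, mul_zero, zero_add] at h
      exact (e.injective h).symm
    exact ⟨Units.mk0 k hk0, fun i => by simpa [hb] using hgb i⟩
  choose f hf using hM
  have funiq : ∀ (g : M) (k : (ZMod p)ˣ), (∀ i, (g : G) • e i = e ((k : ZMod p) * i)) → f g = k := by
    intro g k hk
    have := (hf g 1).symm.trans (hk 1)
    simpa [Units.ext_iff] using e.injective this
  let F : M →* (ZMod p)ˣ := MonoidHom.mk' f fun g g' => funiq _ _ fun i => by
    show ((g : G) * (g' : G)) • e i = _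
    rw [mul_smul, hf, hf, Units.val_mul, mul_assoc]
  have hinj : Function.Injective F := by
    intro g g' hgg
    refine Subtype.ext (PermGp.perm_ext fun a => ?_)
    obtain ⟨i, rfl⟩ := e.surjective a
    rw [hf g, hf g', show f g = f g' from hgg]
  have hcardM : 2 * Nat.card M = p - 1 := by
    haveI : IsPretransitive N α := ⟨fun a b => by
      obtain ⟨i, rfl⟩ := e.surjective a
      obtain ⟨j, rfl⟩ := e.surjective b
      refine ⟨⟨x ^ ((j - i).val : ℤ), Subgroup.zpow_mem _ hxN _⟩, ?_⟩
      show x ^ ((j - i).val : ℤ) • e i = e j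
      rw [PermGp.frame_pow G hx, Int.cast_natCast, ZMod.natCast_zmod_val]
      congr 1; ring⟩
    have h := PermGp.card_mul_card_stabilizer (G := N) (e 0)
    rw [Nat.card_eq_fintype_card (α := α), hα] at h
    have hM' : Nat.card (stabilizer N (e 0)) = Nat.card M := Nat.card_congr
      { toFun := fun g => ⟨g.1.1, g.1.2, g.2⟩
        invFun := fun g => ⟨⟨g.1, g.2.1⟩, g.2.2⟩ }
    rw [hM'] at h
    refine Nat.eq_of_mul_eq_mul_left hp.out.pos ?_
    rw [← hN, ← h]; ring
  -- the image consists of all solutions of `u ^ |M| = 1`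
  let T : Finset (ZMod p)ˣ := Finset.univ.filter fun u => u ^ Nat.card M = 1
  haveI := Fintype.ofFinite M
  have himg : (Finset.univ.image F) = T := by
    refine Finset.eq_of_subset_of_card_le ?_ ?_
    · intro u hu
      obtain ⟨g, -, rfl⟩ := Finset.mem_image.mp hu
      refine Finset.mem_filter.mpr ⟨Finset.mem_univ _, ?_⟩
      rw [← map_pow, pow_card_eq_one', map_one]
    · refine (IsCyclic.card_pow_eq_one_le Nat.card_pos).trans ?_
      rw [Finset.card_image_of_injective _ hinj, Finset.card_univ, Nat.card_eq_fintype_card]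
  have hmem : (Units.mk0 s hs) ^ 2 ∈ T := by
    refine Finset.mem_filter.mpr ⟨Finset.mem_univ _, ?_⟩
    rw [← pow_mul, hcardM]
    exact ZMod.units_pow_card_sub_one_eq_one p _
  rw [← himg] at hmem
  obtain ⟨g, -, hg⟩ := Finset.mem_image.mp hmem
  refine ⟨g, fun i => ?_⟩
  rw [hf g i, show f g = _ from hg]
  simp

/-- A two point stabilizer has at most two orbits on the other points. -/
theorem orbit_bound_of_squares (hG : ¬ Group.IsSolvable G) {x : G} {e : ZMod p ≃ α}
    (hx : ∀ i, x • e i = e (i + 1))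
    (hsq : ∀ s : ZMod p, s ≠ 0 → ∃ g : G, ∀ i, g • e i = e (s ^ 2 * i))
    {a b : α} (hab : a ≠ b) (y : Fin 3 → α) (hy : ∀ i, y i ≠ a ∧ y i ≠ b)
    (hyd : ∀ i j, i ≠ j → ∀ g : G, g • a = a → g • b = b → g • y i ≠ y j) : False := by
  classical
  have hp5 := PermGp.five_le_of_not_solvable hα G hG
  have h2 : ∀ {u v u' v' : α}, u ≠ v → u' ≠ v' → ∃ g : G, g • u = u' ∧ g • v = v' :=
    fun h h' => is_two_pretransitive_iff.mp (PermGp.two_transitive_of_not_solvable hα G hG) h h'
  obtain ⟨ν, hν⟩ := FiniteField.exists_nonsquare (F := ZMod p)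
    (by rw [ZMod.ringChar_zmod_n]; omega)
  -- movers of the base pair
  have hmv : ∀ q : α × α, ∃ g : G, q.1 ≠ q.2 → g • a = q.1 ∧ g • b = q.2 := by
    intro q
    by_cases hq : q.1 = q.2
    · exact ⟨1, fun h => absurd hq h⟩
    · obtain ⟨g, h1, h3⟩ := h2 hab hq
      exact ⟨g, fun _ => ⟨h1, h3⟩⟩
  choose mv hmv using hmv
  -- invariant weights at the base pair
  let wt : (Fin 4 → ZMod p) →ₗ[ZMod p] (α → ZMod p) :=
    { toFun := fun c γ => if γ = a then c 0 else
        ∑ i : Fin 3, if ∃ g : G, g • a = a ∧ g • b = b ∧ g • y i = γ then c i.succ else 0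
      map_add' := fun c d => by
        funext γ
        simp only [Pi.add_apply]
        split
        · rfl
        · rw [← Finset.sum_add_distrib]
          refine Finset.sum_congr rfl fun i _ => ?_
          split <;> simp
      map_smul' := fun r c => by
        funext γ
        simp only [Pi.smul_apply, smul_eq_mul, RingHom.id_apply]
        split
        · rfl
        · rw [Finset.mul_sum]
          refine Finset.sum_congr rfl fun i _ => ?_
          split <;> simp }
  have hwt : ∀ (c : Fin 4 → ZMod p) (h : G), h • a = a → h • b = b → ∀ γ, wt c (h • γ) = wt c γ := by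
    intro c h ha hb γ
    change (if h • γ = a then _ else _) = (if γ = a then _ else _)
    by_cases hγ : γ = a
    · rw [if_pos hγ, if_pos (by rw [hγ, ha])]
    · rw [if_neg hγ, if_neg fun e => hγ (MulAction.injective h (e.trans ha.symm))]
      refine Finset.sum_congr rfl fun i _ => if_congr ⟨?_, ?_⟩ rfl rfl
      · rintro ⟨g, g1, g2, g3⟩
        exact ⟨h⁻¹ * g, by rw [mul_smul, g1, inv_smul_eq_iff, ha],
          by rw [mul_smul, g2, inv_smul_eq_iff, hb], by rw [mul_smul, g3, inv_smul_smul]⟩
      · rintro ⟨g, g1, g2, g3⟩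
        exact ⟨h * g, by rw [mul_smul, g1, ha], by rw [mul_smul, g2, hb], by rw [mul_smul, g3]⟩
  let W : (Fin 4 → ZMod p) → α × α → α → ZMod p := fun c q γ => wt c ((mv q)⁻¹ • γ)
  have hW : ∀ c (g : G) (q : α × α) γ, q.1 ≠ q.2 → W c (g • q.1, g • q.2) (g • γ) = W c q γ := by
    intro c g q γ hq
    have hq' : (g • q.1, g • q.2).1 ≠ (g • q.1, g • q.2).2 := fun e => hq (MulAction.injective g e)
    obtain ⟨h1, h3⟩ := hmv q hq
    obtain ⟨h1', h3'⟩ := hmv _ hq'
    show wt c _ = wt c _
    set m' := mv (g • q.1, g • q.2)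
    have he : m'⁻¹ • g • γ = (m'⁻¹ * g * mv q) • (mv q)⁻¹ • γ := by
      simp only [mul_smul, smul_inv_smul]
    rw [he]
    refine hwt c _ ?_ ?_ _
    · rw [mul_smul, mul_smul, h1, inv_smul_eq_iff, h1']
    · rw [mul_smul, mul_smul, h3, inv_smul_eq_iff, h3']
  let v₀ : α → ZMod p := fun γ => e.symm γ
  let Fv : (Fin 4 → ZMod p) → ZMod p → ZMod p → ZMod p := fun c i j =>
    ∑ γ, W c (e i, e j) γ * v₀ γ
  let Φ : (Fin 4 → ZMod p) →ₗ[ZMod p] (Fin 3 → ZMod p) :=
    { toFun := fun c => ![∑ γ, wt c γ, Fv c 0 1, Fv c 0 ν]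
      map_add' := fun c d => by
        funext k
        fin_cases k <;> simp [Fv, W, Finset.sum_add_distrib, add_mul]
      map_smul' := fun r c => by
        funext k
        fin_cases k <;> simp [Fv, W, Finset.mul_sum, mul_assoc] }
  obtain ⟨c, hc, hc0⟩ : ∃ c ∈ LinearMap.ker Φ, c ≠ 0 := by
    refine Submodule.exists_mem_ne_zero_of_ne_bot (LinearMap.ker_ne_bot_of_finrank_lt ?_)
    simp
  rw [LinearMap.mem_ker] at hc
  have hk : ∑ γ, wt c γ = 0 := congrFun hc 0
  have h01 : Fv c 0 1 = 0 := congrFun hc 1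
  have h0ν : Fv c 0 ν = 0 := congrFun hc 2
  have hrow : ∀ q : α × α, ∑ γ, W c q γ = 0 := fun q => by
    rw [← hk]
    exact Fintype.sum_equiv (MulAction.toPerm (mv q)⁻¹) _ _ fun γ => rfl
  -- translations
  have htr : ∀ i d : ZMod p, d ≠ 0 → Fv c i (i + d) = Fv c 0 d := by
    intro i d hd
    have hpow : ∀ j, (x ^ (i.val : ℤ)) • e j = e (j + i) := fun j => by
      rw [PermGp.frame_pow G hx, Int.cast_natCast, ZMod.natCast_zmod_val]
    show ∑ γ, W c (e i, e (i + d)) γ * v₀ γ = ∑ γ, W c (e 0, e d) γ * v₀ γ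
    calc ∑ γ, W c (e i, e (i + d)) γ * v₀ γ
        = ∑ γ, W c (e 0, e d) γ * (v₀ γ + i) := by
          refine (Fintype.sum_equiv (MulAction.toPerm (x ^ (i.val : ℤ))) _ _ fun γ => ?_).symm
          obtain ⟨j, rfl⟩ := e.surjective γ
          simp only [MulAction.toPerm_apply]
          have hw := hW c (x ^ (i.val : ℤ)) (e 0, e d) (e j) (fun h => hd (e.injective h).symm)
          simp only [hpow, zero_add, add_comm d i] at hw
          rw [hpow, hw]
          simp [v₀, hpow]
      _ = _ := by
          simp only [mul_add, Finset.sum_add_distrib, ← Finset.sum_mul, hrow, zero_mul, add_zero]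
  have hsq : ∀ s d : ZMod p, s ≠ 0 → d ≠ 0 → Fv c 0 (s ^ 2 * d) = s ^ 2 * Fv c 0 d := by
    intro s d hs hd
    obtain ⟨g, hg⟩ := hsq s hs
    show ∑ γ, W c (e 0, e (s ^ 2 * d)) γ * v₀ γ = s ^ 2 * ∑ γ, W c (e 0, e d) γ * v₀ γ
    rw [Finset.mul_sum]
    refine (Fintype.sum_equiv (MulAction.toPerm g) _ _ fun γ => ?_).symm
    obtain ⟨j, rfl⟩ := e.surjective γ
    simp only [MulAction.toPerm_apply]
    have hw := hW c g (e 0, e d) (e j) (fun h => hd (e.injective h).symm)
    simp only [hg, mul_zero] at hw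
    rw [hg, hw]
    simp [v₀, hg]; ring
  have hνne : ν ≠ 0 := fun h => hν (h ▸ IsSquare.zero)
  have hall : ∀ q : α × α, q.1 ≠ q.2 → ∑ γ, W c q γ * v₀ γ = 0 := by
    rintro ⟨u, w⟩ huw
    obtain ⟨i, rfl⟩ := e.surjective u
    obtain ⟨j, rfl⟩ := e.surjective w
    have hd : j - i ≠ 0 := sub_ne_zero.mpr fun h => huw (by rw [h])
    show Fv c i j = 0
    rw [← add_sub_cancel i j, htr i _ hd]
    by_cases hs : IsSquare (j - i)
    · obtain ⟨s, hs'⟩ := hs
      have hs0 : s ≠ 0 := fun h => hd (by rw [hs', h, mul_zero])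
      rw [show j - i = s ^ 2 * 1 by rw [hs']; ring, hsq s 1 hs0 one_ne_zero, h01, mul_zero]
    · obtain ⟨s, hs'⟩ := (FiniteField.isSquare_iff (by rw [ZMod.ringChar_zmod_n]; omega)
        (div_ne_zero hd hνne)).mpr (by
          rw [ZMod.card, div_pow]
          have h1 := (FiniteField.pow_dichotomy (by rw [ZMod.ringChar_zmod_n]; omega) hd)
          have h3 := (FiniteField.pow_dichotomy (by rw [ZMod.ringChar_zmod_n]; omega) hνne)
          rw [ZMod.card] at h1 h3
          have e1 : (j - i) ^ (p / 2) = -1 := h1.resolve_left fun h => hs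
            ((FiniteField.isSquare_iff (by rw [ZMod.ringChar_zmod_n]; omega) hd).mpr (by rwa [ZMod.card]))
          have e3 : ν ^ (p / 2) = -1 := h3.resolve_left fun h => hν
            ((FiniteField.isSquare_iff (by rw [ZMod.ringChar_zmod_n]; omega) hνne).mpr (by rwa [ZMod.card]))
          rw [e1, e3, div_self (neg_ne_zero.mpr one_ne_zero)])
      have hs0 : s ≠ 0 := fun h => div_ne_zero hd hνne (by rw [hs', h, mul_zero])
      have : j - i = s ^ 2 * ν := by
        rw [pow_two, ← hs', div_mul_cancel₀ _ hνne]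
      rw [this, hsq s ν hs0 hνne, h0ν, mul_zero]
  -- the common kernel is an invariant subspace
  let V : Subrepresentation (Cfsg.permRep (ZMod p) G α) :=
    { toSubmodule :=
        { carrier := {v | ∑ γ, v γ = 0 ∧ ∀ q : α × α, q.1 ≠ q.2 → ∑ γ, W c q γ * v γ = 0}
          add_mem' := fun {u v} hu hv => ⟨by simp [Finset.sum_add_distrib, hu.1, hv.1],
            fun q hq => by simp [mul_add, Finset.sum_add_distrib, hu.2 q hq, hv.2 q hq]⟩
          zero_mem' := by simp
          smul_mem' := fun r v hv => ⟨by simp [← Finset.mul_sum, hv.1],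
            fun q hq => by simp [mul_left_comm _ r, ← Finset.mul_sum, hv.2 q hq]⟩ }
      apply_mem_toSubmodule := by
        intro g v hv
        refine ⟨?_, fun q hq => ?_⟩
        · rw [← hv.1]
          exact Fintype.sum_equiv (MulAction.toPerm g⁻¹) _ _ fun γ => rfl
        · have hq' : g⁻¹ • q.1 ≠ g⁻¹ • q.2 := fun e => hq (MulAction.injective g⁻¹ e)
          rw [← hv.2 (g⁻¹ • q.1, g⁻¹ • q.2) hq']
          refine Fintype.sum_equiv (MulAction.toPerm g⁻¹) _ _ fun γ => ?_
          simp only [MulAction.toPerm_apply, PermGp.permRep_apply, hW c g⁻¹ q γ hq] }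
  have hCV : (Cfsg.permConstants (ZMod p) G α).toSubmodule ≤ V.toSubmodule := by
    intro v hv
    obtain ⟨r, hr⟩ := PermGp.mem_permConstants.mp hv
    refine ⟨?_, fun q _ => ?_⟩
    · simp [hr, hα]
    · simp [hr, ← Finset.sum_mul, hrow q]
  have hVU : V.toSubmodule ≤ (Cfsg.permSumZero (ZMod p) G α).toSubmodule := fun v hv => hv.1
  have hv0 : v₀ ∈ V.toSubmodule := by
    refine ⟨?_, hall⟩
    show ∑ γ, v₀ γ = 0
    rw [show ∑ γ, v₀ γ = ∑ i : ZMod p, i ^ 1 from Fintype.sum_equiv e.symm _ _ fun γ => (pow_one _).symm]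
    exact FiniteField.sum_pow_lt_card_sub_one (K := ZMod p) 1 (by rw [ZMod.card]; omega)
  rcases PermGp.heart_irreducible hα G hG V hCV hVU with hV | hV
  · rw [hV] at hv0
    obtain ⟨r, hr⟩ := PermGp.mem_permConstants.mp hv0
    have := (hr (e 1)).trans (hr (e 0)).symm
    simp [v₀] at this
  · have hconst : ∀ u w : α, wt c u = wt c w := by
      intro u w
      have hm : (fun γ => (if γ = (mv (a, b)) • u then (1 : ZMod p) else 0) -
          if γ = (mv (a, b)) • w then 1 else 0) ∈ V.toSubmodule := by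
        rw [hV, PermGp.mem_permSumZero]
        simp [Finset.sum_sub_distrib]
      have h := hm.2 (a, b) hab
      simp only [mul_sub, Finset.sum_sub_distrib, mul_ite, mul_one, mul_zero, Finset.sum_ite_eq',
        Finset.mem_univ, if_true, W, inv_smul_smul] at h
      exact sub_eq_zero.mp h
    have hb0 : wt c b = 0 := by
      show (if b = a then _ else _) = _
      rw [if_neg hab.symm]
      refine Finset.sum_eq_zero fun i _ => if_neg ?_
      rintro ⟨g, -, g2, g3⟩
      exact (hy i).2 (MulAction.injective g (g3.trans g2.symm))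
    apply hc0
    funext k
    refine Fin.cases ?_ (fun i => ?_) k
    · have := (hconst a b).trans hb0
      simpa [wt] using this
    · have h := (hconst (y i) b).trans hb0
      change (if y i = a then _ else _) = _ at h
      rw [if_neg (hy i).1, Finset.sum_eq_single i] at h
      · rw [if_pos ⟨1, one_smul _ _, one_smul _ _, one_smul _ _⟩] at h
        exact h
      · intro j _ hji
        rw [if_neg]
        rintro ⟨g, g1, g2, g3⟩
        exact hyd j i hji g g1 g2 g3
      · simp

/-- A two point stabilizer has at most two orbits on the other points. -/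
theorem orbit_bound (hG : ¬ Group.IsSolvable G) (P : Sylow p G)
    (hN : 2 * Nat.card (Subgroup.normalizer ((P : Subgroup G) : Set G)) = p * (p - 1))
    {a b : α} (hab : a ≠ b) (y : Fin 3 → α) (hy : ∀ i, y i ≠ a ∧ y i ≠ b)
    (hyd : ∀ i j, i ≠ j → ∀ g : G, g • a = a → g • b = b → g • y i ≠ y j) : False := by
  obtain ⟨x, e, hP, hx⟩ := PermGp.exists_frame hα G P
  exact orbit_bound_of_squares hα G hG hx (squares_induced hα G hP hx hN) hab y hy hyd

end Cfsg.Agent.PrimeDegreePairs
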