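import Mathlib.NumberTheory.LegendreSymbol.Basic
import Mathlib.FieldTheory.Finite.Basic
import Mathlib.Tactic.LinearCombination
import Mathlib.Tactic.Ring

/-!
# Line structures invariant under translations and square multipliers

There is no line structure on `ZMod p`, `p ≡ 3 (mod 4)`, `p > 7`, invariant under translations and
square multipliers, in which the automorphisms fixing two points are transitive off their line.
-/

set_option autoImplicit false

namespace Cfsg.Agent.PrimeDegreePairs

variable {p : ℕ} [hp : Fact p.Prime]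

/-- The data of the line structure. -/
structure LineSys (R : ZMod p → ZMod p → ZMod p → Prop) : Prop where
  ne : ∀ {a b c}, R a b c → a ≠ b ∧ a ≠ c ∧ b ≠ c
  swap12 : ∀ {a b c}, R a b c → R b a c
  swap23 : ∀ {a b c}, R a b c → R a c b
  trans : ∀ {a b c d}, R a b c → R a b d → c ≠ d → R a c d
  add : ∀ {a b c} t, R a b c → R (a + t) (b + t) (c + t)
  mul : ∀ {a b c s}, s ≠ 0 → IsSquare s → R a b c → R (s * a) (s * b) (s * c)
  move : ∀ k m, k ≠ 0 → k ≠ 1 → ¬ R 0 1 k → m ≠ 0 → m ≠ 1 → ¬ R 0 1 m →
    ∃ g : Equiv.Perm (ZMod p), (∀ a b c, R a b c → R (g a) (g b) (g c)) ∧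
      g 0 = 0 ∧ g 1 = 1 ∧ g k = m

lemma ne_zero_of_lt (hp7 : 7 < p) (k : ℕ) (hk : 0 < k) (hk7 : k ≤ 7) : (k : ZMod p) ≠ 0 := by
  intro h
  rw [ZMod.natCast_eq_zero_iff] at h
  have := Nat.le_of_dvd hk h
  omega

lemma not_sq_neg (hp3 : p % 4 = 3) {x : ZMod p} (hx : x ≠ 0) (h : IsSquare x) :
    ¬ IsSquare (-x) := by
  intro h'
  exact ZMod.exists_sq_eq_neg_one_iff.mp (by simpa [hx] using h'.mul h.inv) hp3

lemma sq_neg_of_not_sq (hp3 : p % 4 = 3) {x : ZMod p} (h : ¬ IsSquare x) : IsSquare (-x) := by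
  have hx : x ≠ 0 := fun e => h (e ▸ IsSquare.zero)
  have hp2 : ringChar (ZMod p) ≠ 2 := by rw [ZMod.ringChar_zmod_n]; omega
  rw [FiniteField.isSquare_iff hp2 (neg_ne_zero.mpr hx), ZMod.card]
  rw [FiniteField.isSquare_iff hp2 hx, ZMod.card] at h
  have h' : x ^ (p / 2) = -1 := by
    have := FiniteField.pow_dichotomy hp2 hx
    rw [ZMod.card] at this
    exact this.resolve_left h
  have ho : Odd (p / 2) := by rw [Nat.odd_iff]; omega
  rw [ho.neg_pow, h', neg_neg]

open scoped Classical in
/-- The third point of a line with three points. -/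
noncomputable def third (c i x : ZMod p) : ZMod p :=
  if IsSquare (x - i) then i + c * (x - i) else i + (1 - c) * (x - i)

section three

variable (hp3 : p % 4 = 3) (hp7 : 7 < p) {c : ZMod p} (hc : c * c = c - 1)

lemma third_pos {i x s : ZMod p} (h : x - i = s * s) : third c i x = i + c * (x - i) := by
  classical
  rw [third, if_pos ⟨s, h⟩]

include hp3 in
lemma third_neg {i x s : ZMod p} (h : x - i = -(s * s)) :
    third c i x = i + (1 - c) * (x - i) := by
  classical
  unfold third
  split_ifs with h'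
  · have hs : x - i = 0 := by
      by_contra hne
      exact not_sq_neg hp3 hne h' ⟨s, by rw [h, neg_neg]⟩
    simp [hs]
  · rfl

lemma third_cases (c i x : ZMod p) :
    third c i x = i + c * (x - i) ∨ third c i x = i + (1 - c) * (x - i) := by
  classical
  unfold third
  split_ifs
  · exact Or.inl rfl
  · exact Or.inr rfl

include hp3 hp7 hc in
/-- The six steps showing that a three point line system is impossible. -/
theorem no_three (comm : ∀ k m : ZMod p, k ≠ 0 → k ≠ 1 → k ≠ c → m ≠ 0 → m ≠ 1 → m ≠ c →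
    ∃ g : Equiv.Perm (ZMod p), g 0 = 0 ∧ g 1 = 1 ∧ g k = m ∧
      ∀ i x, g (third c i x) = third c (g i) (g x)) : False := by
  classical
  have h2 : (2 : ZMod p) ≠ 0 := ne_zero_of_lt hp7 2 (by omega) (by omega)
  have h3 : (3 : ZMod p) ≠ 0 := ne_zero_of_lt hp7 3 (by omega) (by omega)
  have h7 : (7 : ZMod p) ≠ 0 := ne_zero_of_lt hp7 7 (by omega) (by omega)
  have hc0 : c ≠ 0 := fun h => one_ne_zero (α := ZMod p) (by grind)
  have hc1 : c ≠ 1 := fun h => one_ne_zero (α := ZMod p) (by grind)
  set θ := 2 * c - 1 with hθdef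
  have hθ2 : θ * θ = -3 := by rw [hθdef]; linear_combination 4 * hc
  have hθ : θ ≠ 0 := fun h => h3 (by grind)
  obtain ⟨z, hz⟩ : ∃ z : ZMod p, 3 * z = 1 + c := ⟨(1 + c) / 3, mul_div_cancel₀ _ h3⟩
  have cancel : ∀ {a b : ZMod p}, 3 * a = 3 * b → a = b := fun h => mul_left_cancel₀ h3 h
  -- `w := 1 / θ`
  obtain ⟨w, hw⟩ : ∃ w : ZMod p, θ * w = 1 := ⟨θ⁻¹, mul_inv_cancel₀ hθ⟩
  have hw2 : 3 * (w * w) = -1 := by grind
  have hz0 : z ≠ 0 := fun h => h3 (by grind)
  have hz1 : z ≠ 1 := fun h => h3 (by grind)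
  have hzc : z ≠ c := fun h => h3 (by grind)
  -- the point `-c`
  have hm0 : (-c) ≠ 0 := neg_ne_zero.mpr hc0
  have hm1 : (-c) ≠ 1 := fun h => h3 (by grind)
  have hmc : (-c) ≠ c := fun h => mul_ne_zero h2 hc0 (by grind)
  -- the point `-1`
  have ho0 : (-1 : ZMod p) ≠ 0 := neg_ne_zero.mpr one_ne_zero
  have ho1 : (-1 : ZMod p) ≠ 1 := fun h => h2 (by grind)
  have hoc : (-1 : ZMod p) ≠ c := fun h => h3 (by grind)
  have hcd : c = -((c * c) * (c * c)) := by grind
  by_cases ht : IsSquare (2 : ZMod p)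
  · -- `2` is a square: `AB z = BA z` but not at `-1`
    obtain ⟨t, ht⟩ := ht
    obtain ⟨g, g0, g1, gk, hg⟩ := comm z (-1) hz0 hz1 hzc ho0 ho1 hoc
    have hAB : third c 0 (third c 1 z) = third c 1 (third c 0 z) := by
      by_cases hs : IsSquare θ
      · obtain ⟨u, hu⟩ := hs
        rw [third_pos (c := c) (i := 1) (x := z) (s := u * (c * c) * w),
          third_neg hp3 (c := c) (i := 0) (s := u * (c * c) * w),
          third_pos (c := c) (i := 0) (x := z) (s := u * c * w),
          third_pos (c := c) (i := 1) (s := t * u * (c * c) * w)]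
        · grind
        all_goals grind
      · obtain ⟨u, hu⟩ := sq_neg_of_not_sq hp3 hs
        rw [third_neg hp3 (c := c) (i := 1) (x := z) (s := u * (c * c) * w),
          third_neg hp3 (c := c) (i := 0) (s := t * u * c * w),
          third_neg hp3 (c := c) (i := 0) (x := z) (s := u * c * w),
          third_pos (c := c) (i := 1) (s := u * c * w)]
        · grind
        all_goals grind
    have h' := congrArg g hAB
    rw [hg, hg, hg, hg, g0, g1, gk] at h'
    by_cases hs : IsSquare θ
    · obtain ⟨u, hu⟩ := hs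
      rw [third_neg hp3 (c := c) (i := 0) (x := -1) (s := 1),
        third_neg hp3 (c := c) (i := 1) (x := 0 + (1 - c) * (-1 - 0)) (s := u * (c * c)),
        third_neg hp3 (c := c) (i := 1) (x := -1) (s := t),
        third_pos (c := c) (i := 0) (s := u)] at h'
      · grind
      all_goals grind
    · obtain ⟨u, hu⟩ := sq_neg_of_not_sq hp3 hs
      rw [third_neg hp3 (c := c) (i := 0) (x := -1) (s := 1),
        third_pos (c := c) (i := 1) (x := 0 + (1 - c) * (-1 - 0)) (s := u * (c * c)),
        third_neg hp3 (c := c) (i := 1) (x := -1) (s := t),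
        third_neg hp3 (c := c) (i := 0) (s := u)] at h'
      · grind
      all_goals grind
  · -- `2` is not a square: `ABA (-c) = BAB (-c)` but not at `z`
    obtain ⟨t, ht⟩ := sq_neg_of_not_sq hp3 ht
    obtain ⟨g, g0, g1, gk, hg⟩ := comm (-c) z hm0 hm1 hmc hz0 hz1 hzc
    have hAB : third c 0 (third c 1 (third c 0 (-c))) = third c 1 (third c 0 (third c 1 (-c))) := by
      rw [third_pos (c := c) (i := 0) (x := -c) (s := c * c),
        third_pos (c := c) (i := 1) (x := 0 + c * (-c - 0)) (s := c * c)]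
      · by_cases hs : IsSquare θ
        · obtain ⟨u, hu⟩ := hs
          rw [third_pos (c := c) (i := 0) (s := u * (c * c)),
            third_pos (c := c) (i := 1) (x := -c) (s := u * c),
            third_pos (c := c) (i := 0) (s := t * c),
            third_pos (c := c) (i := 1) (s := 1)]
          · grind
          all_goals grind
        · obtain ⟨u, hu⟩ := sq_neg_of_not_sq hp3 hs
          rw [third_neg hp3 (c := c) (i := 0) (s := u * (c * c)),
            third_neg hp3 (c := c) (i := 1) (x := -c) (s := u * c),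
            third_pos (c := c) (i := 0) (s := c),
            third_pos (c := c) (i := 1) (s := t)]
          · grind
          all_goals grind
      all_goals grind
    have h' := congrArg g hAB
    rw [hg, hg, hg, hg, hg, hg, g0, g1, gk] at h'
    by_cases hs : IsSquare θ
    · obtain ⟨u, hu⟩ := hs
      rw [third_pos (c := c) (i := 0) (x := z) (s := u * c * w),
        third_neg hp3 (c := c) (i := 1) (x := 0 + c * (z - 0)) (s := t * u * (c * c) * w),
        third_pos (c := c) (i := 1) (x := z) (s := u * (c * c) * w),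
        third_neg hp3 (c := c) (i := 0) (x := 1 + c * (z - 1)) (s := u * (c * c) * w),
        third_pos (c := c) (i := 1) (s := t * u * c * w)] at h'
      · rcases third_cases c 0 (1 + (1 - c) * (0 + c * (z - 0) - 1)) with e | e <;> rw [e] at h'
        · grind
        · grind
      all_goals grind
    · obtain ⟨u, hu⟩ := sq_neg_of_not_sq hp3 hs
      rw [third_neg hp3 (c := c) (i := 0) (x := z) (s := u * c * w),
        third_pos (c := c) (i := 1) (x := 0 + (1 - c) * (z - 0)) (s := u * c * w),
        third_neg hp3 (c := c) (i := 0) (x := 1 + c * (0 + (1 - c) * (z - 0) - 1)) (s := t * u * (c * c) * w),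
        third_neg hp3 (c := c) (i := 1) (x := z) (s := u * (c * c) * w),
        third_pos (c := c) (i := 0) (s := t * u * c * w)] at h'
      · rcases third_cases c 1 (0 + c * (1 + (1 - c) * (z - 1) - 0)) with e | e <;> rw [e] at h'
        · grind
        · grind
      all_goals grind

end three

/-- An invariant line system with lines of constant size between three and `p - 1` points does not
exist. -/
theorem no_line_system (hp3 : p % 4 = 3) (hp7 : 7 < p) {R : ZMod p → ZMod p → ZMod p → Prop}
    (L : LineSys R) (n : ℕ) (hn1 : 1 < n) (hn : n < p - 1)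
    (hcard : ∀ a b, a ≠ b → Nat.card {c // R a b c} = n - 1) : False := by
  classical
  have h2 : (2 : ZMod p) ≠ 0 := ne_zero_of_lt hp7 2 (by omega) (by omega)
  -- the blocks at `0`
  let E : ZMod p → ZMod p → Prop := fun b x => b ≠ 0 ∧ x ≠ 0 ∧ (b = x ∨ R 0 b x)
  have Es : ∀ {b x}, E b x → E x b := by
    rintro b x ⟨hb, hx, h | h⟩
    · exact ⟨hx, hb, Or.inl h.symm⟩
    · exact ⟨hx, hb, Or.inr (L.swap23 h)⟩
  have Et : ∀ {b x y}, E b x → E x y → E b y := by
    rintro b x y ⟨hb, hx, h | h⟩ ⟨-, hy, h' | h'⟩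
    · exact ⟨hb, hy, Or.inl (h.trans h')⟩
    · exact ⟨hb, hy, Or.inr (h ▸ h')⟩
    · exact ⟨hb, hy, Or.inr (h' ▸ h)⟩
    · by_cases hby : b = y
      · exact ⟨hb, hy, Or.inl hby⟩
      · exact ⟨hb, hy, Or.inr (L.trans (L.swap23 h) h' hby)⟩
  have Em : ∀ {b x} (s : ZMod p), s ≠ 0 → IsSquare s → E b x → E (s * b) (s * x) := by
    rintro b x s hs hs' ⟨hb, hx, h | h⟩
    · exact ⟨mul_ne_zero hs hb, mul_ne_zero hs hx, Or.inl (by rw [h])⟩
    · refine ⟨mul_ne_zero hs hb, mul_ne_zero hs hx, Or.inr ?_⟩
      simpa using L.mul hs hs' h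
  have neg_sq : ∀ {x : ZMod p}, ¬ IsSquare x → IsSquare (-x) := fun h => sq_neg_of_not_sq hp3 h
  -- some point besides `1` in the block of `1`
  obtain ⟨y₀, hy₀⟩ : ∃ y, R 0 1 y := by
    have := hcard 0 1 zero_ne_one
    have hpos : 0 < Nat.card {c // R 0 1 c} := by omega
    obtain ⟨⟨y, hy⟩⟩ := (Nat.card_pos_iff.mp hpos).1
    exact ⟨y, hy⟩
  have shiftm : ∀ {h}, R 0 1 h → R 0 (-1) (h - 1) := by
    intro h hh
    have := L.swap12 (L.add (-1) hh)
    simpa [← sub_eq_add_neg] using this
  have shifth : ∀ {h}, R 0 1 h → R 0 (-h) (1 - h) := by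
    intro h hh
    have := L.swap12 (L.add (-h) (L.swap23 hh))
    simpa [← sub_eq_add_neg] using this
  have toE : ∀ {b x}, R 0 b x → E b x := fun h =>
    ⟨(L.ne h).1.symm, (L.ne h).2.1.symm, Or.inr h⟩
  by_cases hns : ∀ x, E 1 x → IsSquare x
  · -- only squares: so the block of `-1` has no square
    have hm : ∀ x, E (-1) x → ¬ IsSquare x := by
      intro x hx hxs
      have h := Em x⁻¹ (inv_ne_zero hx.2.1) hxs.inv (Es hx)
      rw [inv_mul_cancel₀ hx.2.1] at h
      have := hns _ h
      rw [mul_neg_one] at this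
      exact not_sq_neg hp3 (inv_ne_zero hx.2.1) hxs.inv this
    have hy := toE hy₀
    have h1 := hm _ (toE (shiftm hy₀))
    have hys := hns _ hy
    have h3 : ¬ IsSquare (1 - y₀) := by
      intro hs
      have h := Em y₀⁻¹ (inv_ne_zero hy.2.1) hys.inv (toE (shifth hy₀))
      rw [mul_neg, inv_mul_cancel₀ hy.2.1] at h
      exact hm _ h (hys.inv.mul hs)
    exact h3 (by simpa using neg_sq h1)
  push Not at hns
  obtain ⟨c, hc1, hcns⟩ := hns
  have hc0 : c ≠ 0 := hc1.2.1
  have hsq : IsSquare (-c⁻¹) := by simpa using (neg_sq hcns).inv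
  have blockm : ∀ x, E (-1) x → E 1 (-c * x) := by
    intro x hx
    have h := Em (-c⁻¹) (neg_ne_zero.mpr (inv_ne_zero hc0)) hsq hc1
    rw [mul_one, show -c⁻¹ * c = -1 by field_simp] at h
    have := Em (-c) (neg_ne_zero.mpr hc0) (neg_sq hcns) (Et h hx)
    rwa [show -c * -c⁻¹ = 1 by field_simp] at this
  by_cases hh : ∃ h, h ≠ 1 ∧ IsSquare h ∧ E 1 h
  · obtain ⟨h, hne, hhs, hEh⟩ := hh
    have hR : R 0 1 h := hEh.2.2.resolve_left (fun e => hne e.symm)
    have hh0 : h ≠ 0 := hEh.2.1
    have e1 : E 1 (-c * (h - 1)) := blockm _ (toE (shiftm hR))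
    have e2 : E 1 (c * (h - 1)) := by
      have h' := Em h⁻¹ (inv_ne_zero hh0) hhs.inv (toE (shifth hR))
      rw [mul_neg, inv_mul_cancel₀ hh0] at h'
      have h'' := Em h hh0 hhs (blockm _ h')
      rw [mul_one, show h * (-c * (h⁻¹ * (1 - h))) = c * (h - 1) by field_simp; ring] at h''
      exact Et hEh h''
    -- so `-1` lies in the block of `1`
    obtain ⟨s, hs, es, es'⟩ : ∃ s, IsSquare s ∧ E 1 s ∧ E 1 (-s) := by
      by_cases hs : IsSquare (c * (h - 1))
      · exact ⟨_, hs, e2, by rwa [← neg_mul]⟩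
      · exact ⟨_, neg_sq hs, by rwa [← neg_mul], by rwa [neg_neg]⟩
    have hm1 : E 1 (-1) := by
      have h' := Em s⁻¹ (inv_ne_zero es.2.1) hs.inv (Et (Es es) es')
      rwa [inv_mul_cancel₀ es.2.1, mul_neg, inv_mul_cancel₀ es.2.1] at h'
    have all : ∀ k : ℕ, k + 1 < p → E 1 (-((k + 1 : ℕ) : ZMod p)) := by
      intro k
      induction k with
      | zero => intro _; simpa using hm1
      | succ k ih =>
        intro hk
        have h' := ih (by omega)
        have hR : R 0 1 (-((k + 1 : ℕ) : ZMod p)) := by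
          refine h'.2.2.resolve_left fun e => ?_
          have h0 : ((k + 2 : ℕ) : ZMod p) = 0 := by push_cast at e ⊢; linear_combination e
          rw [ZMod.natCast_eq_zero_iff] at h0
          have := Nat.le_of_dvd (by omega) h0
          omega
        have h'' := Et hm1 (toE (shiftm hR))
        convert h'' using 1
        push_cast; ring
    have hsub : ∀ x : ZMod p, x ≠ 0 → E 1 x := by
      intro x hx
      have hv : (-x).val ≠ 0 := fun e => hx (by simpa [ZMod.val_eq_zero] using e)
      have := all ((-x).val - 1) (by have := ZMod.val_lt (-x); omega)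
      rwa [Nat.sub_add_cancel (Nat.one_le_iff_ne_zero.mpr hv), ZMod.natCast_zmod_val, neg_neg] at this
    have hc : Nat.card {c // R 0 1 c} = p - 2 := by
      have heq : Finset.univ.filter (fun x => R 0 1 x) = Finset.univ \ {0, 1} := by
        ext x
        simp only [Finset.mem_filter, Finset.mem_univ, true_and, Finset.mem_sdiff,
          Finset.mem_insert, Finset.mem_singleton, not_or]
        exact ⟨fun h => ⟨(L.ne h).2.1.symm, (L.ne h).2.2.symm⟩,
          fun h => (hsub x h.1).2.2.resolve_left (fun e => h.2 e.symm)⟩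
      rw [Nat.card_eq_fintype_card, Fintype.card_subtype, heq,
        Finset.card_sdiff_of_subset (Finset.subset_univ _), Finset.card_univ, ZMod.card]
      simp
    rw [hcard 0 1 zero_ne_one] at hc
    omega
  -- lines with three points
  push Not at hh
  have huniq : ∀ x, R 0 1 x → x = c := by
    intro x hx
    have hxs : ¬ IsSquare x := fun hs => hh x (L.ne hx).2.2.symm hs (toE hx)
    have hs : IsSquare (x / c) := by
      have := (neg_sq hxs).mul (neg_sq hcns).inv
      simpa [div_eq_mul_inv] using this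
    by_contra hne
    have hx0 : x ≠ 0 := (toE hx).2.1
    have h' := Em (x / c) (div_ne_zero hx0 hc0) hs hc1
    rw [mul_one, div_mul_cancel₀ _ hc0] at h'
    exact hh (x / c) (fun e => hne (by rwa [div_eq_one_iff_eq hc0] at e)) hs
      (Et (toE hx) (Es h'))
  have hy₀c : y₀ = c := huniq _ hy₀
  rw [hy₀c] at hy₀
  have hn2 : n = 2 := by
    have : Nat.card {c // R 0 1 c} = 1 := Nat.card_eq_one_iff_unique.mpr
      ⟨⟨fun a b => Subtype.ext ((huniq _ a.2).trans (huniq _ b.2).symm)⟩, ⟨⟨c, hy₀⟩⟩⟩
    rw [hcard 0 1 zero_ne_one] at this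
    omega
  have hcne : c ≠ 1 := (L.ne hy₀).2.2.symm
  have hc : c * c = c - 1 := by
    rcases (blockm _ (toE (shiftm hy₀))).2.2 with e | e
    · linear_combination e
    · have := huniq _ e
      exact absurd (mul_eq_zero.mp (by linear_combination -this : c * c = 0)) (by simp [hc0])
  -- the third point
  have hthird : ∀ i x, x ≠ i → R i x (third c i x) := by
    intro i x hxi
    have hd : x - i ≠ 0 := sub_ne_zero.mpr hxi
    unfold third
    split_ifs with hs
    · have := L.add i (L.mul hd hs hy₀)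
      simpa [mul_comm c, add_comm i] using this
    · have hs' : IsSquare ((1 - c) * (x - i)) := by
        have := (IsSquare.mul_self c).mul (neg_sq hs)
        rwa [show c * c * -(x - i) = (1 - c) * (x - i) by rw [hc]; ring] at this
      have h1c : 1 - c ≠ 0 := sub_ne_zero.mpr (Ne.symm hcne)
      have := L.add i (L.swap23 (L.mul (mul_ne_zero h1c hd) hs' hy₀))
      rw [show (1 - c) * (x - i) * 0 + i = i by ring,
        show (1 - c) * (x - i) * c + i = x by linear_combination -(x - i) * hc,
        show (1 - c) * (x - i) * 1 + i = i + (1 - c) * (x - i) by ring] at this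
      exact this
  have huniq' : ∀ {i x y}, R i x y → y = third c i x := by
    intro i x y h
    have h1 : Nat.card {c // R i x c} = 1 := by rw [hcard i x (L.ne h).1, hn2]
    exact Subtype.ext_iff.mp ((Nat.card_eq_one_iff_unique.mp h1).1.elim ⟨y, h⟩
      ⟨_, hthird i x (L.ne h).1.symm⟩)
  refine no_three hp3 hp7 hc fun k m k0 k1 kc m0 m1 mc => ?_
  obtain ⟨g, hg, g0, g1, gk⟩ := L.move k m k0 k1 (fun h => kc (huniq _ h)) m0 m1
    (fun h => mc (huniq _ h))
  refine ⟨g, g0, g1, gk, fun i x => ?_⟩
  by_cases hxi : x = i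
  · subst hxi; simp [third]
  · exact huniq' (hg _ _ _ (hthird i x hxi))

end Cfsg.Agent.PrimeDegreePairs
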