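import Mathlib.LinearAlgebra.Lagrange
import Mathlib.Algebra.Polynomial.FieldDivision
import Mathlib.FieldTheory.Finite.Basic
import Mathlib.Algebra.Field.ZMod
import Mathlib.Data.Nat.Prime.Factorial

/-!
# Differences in a multiplicative subgroup

Stepanov's method: a set whose non-zero differences are all `m`-th roots of unity is small.
-/

set_option autoImplicit false

namespace Cfsg.Agent.PrimeDegreePairs

open Polynomial

theorem card_mul_pred_le {p : ℕ} [hp : Fact p.Prime] (B : Finset (ZMod p)) {m : ℕ}
    (hB : 2 ≤ B.card) (hm : B.card - 1 + m < p) (hm0 : 0 < m)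
    (h : ∀ a ∈ B, ∀ b ∈ B, a ≠ b → (a - b) ^ m = 1) : B.card * (B.card - 1) ≤ m := by
  classical
  set n := B.card with hn
  set N := n - 1 + m with hN
  let c : ZMod p → ZMod p := fun b => (-1) ^ (n - 1) * (∏ j ∈ B.erase b, (b - j))⁻¹
  have hfun : ∀ (P : (ZMod p)[X]), P.degree < n →
      ∑ b ∈ B, c b * P.eval b = (-1) ^ (n - 1) * P.coeff (n - 1) := by
    intro P hP
    have h' := Lagrange.coeff_eq_sum (s := B) (v := id) Function.injective_id.injOn hP
    rw [hn, h', Finset.mul_sum]
    refine Finset.sum_congr rfl fun b _ => ?_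
    simp only [c, id, div_eq_mul_inv, ← hn]
    ring
  have hc : ∀ (a : ZMod p) (t : ℕ), t ≤ n - 1 →
      ∑ b ∈ B, c b * (a - b) ^ t = if t = n - 1 then 1 else 0 := by
    intro a t ht
    have hdeg : ((C a - X) ^ t).natDegree ≤ t := by
      refine natDegree_pow_le.trans ?_
      have : (C a - X : (ZMod p)[X]).natDegree ≤ 1 := (natDegree_sub_le _ _).trans (by simp)
      simpa using Nat.mul_le_mul_left t this
    have h' := hfun ((C a - X) ^ t) (lt_of_le_of_lt degree_le_natDegree (by
      exact_mod_cast (show ((C a - X) ^ t).natDegree < n by omega)))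
    simp only [eval_pow, eval_sub, eval_C, eval_X] at h'
    rw [h']
    have hneg : (C a - X : (ZMod p)[X]) ^ t = C ((-1) ^ t) * (X + C (-a)) ^ t := by
      rw [C_pow, ← mul_pow]; congr 1; simp; ring
    rw [hneg, coeff_C_mul, coeff_X_add_C_pow]
    split_ifs with e
    · subst e
      rw [Nat.choose_self, Nat.sub_self, pow_zero, Nat.cast_one, one_mul, mul_one, ← pow_add]
      exact Even.neg_one_pow ⟨n - 1, rfl⟩
    · rw [Nat.choose_eq_zero_of_lt (by omega), Nat.cast_zero, mul_zero, mul_zero, mul_zero]
  let f : (ZMod p)[X] := ∑ b ∈ B, C (c b) * (X - C b) ^ N - 1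
  have hcoeff : ∀ t, t ≤ n - 1 → f.coeff (N - t) =
      (N.choose t : ZMod p) * (if t = n - 1 then 1 else 0) := by
    intro t ht
    rw [show f = ∑ b ∈ B, C (c b) * (X - C b) ^ N - 1 from rfl, coeff_sub, finset_sum_coeff,
      coeff_one, if_neg (by omega), sub_zero, ← hc 0 t ht, Finset.mul_sum]
    refine Finset.sum_congr rfl fun b _ => ?_
    rw [coeff_C_mul, sub_eq_add_neg X, ← C_neg, coeff_X_add_C_pow, Nat.sub_sub_self (by omega),
      Nat.choose_symm (by omega), zero_sub]
    ring
  have hf0 : f ≠ 0 := by
    intro e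
    have h' := hcoeff (n - 1) le_rfl
    rw [e, coeff_zero, if_pos rfl, mul_one] at h'
    have hdvd : p ∣ N.choose (n - 1) := (ZMod.natCast_eq_zero_iff _ _).mp h'.symm
    have : p ∣ Nat.factorial N := by
      rw [← Nat.choose_mul_factorial_mul_factorial (show n - 1 ≤ N by omega)]
      exact (hdvd.mul_right _).mul_right _
    exact absurd ((Nat.Prime.dvd_factorial hp.out).mp this) (by omega)
  have hfdeg : f.natDegree ≤ m := by
    rw [natDegree_le_iff_coeff_eq_zero]
    intro j hj
    by_cases hjN : j ≤ N
    · have h' := hcoeff (N - j) (by omega)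
      rwa [Nat.sub_sub_self hjN, if_neg (by omega), mul_zero] at h'
    · rw [show f = ∑ b ∈ B, C (c b) * (X - C b) ^ N - 1 from rfl, coeff_sub, finset_sum_coeff,
        coeff_one, if_neg (by omega), sub_zero]
      refine Finset.sum_eq_zero fun b _ => ?_
      rw [coeff_C_mul, coeff_eq_zero_of_natDegree_lt, mul_zero]
      rw [natDegree_pow, natDegree_X_sub_C, mul_one]; omega
  have hroot : ∀ a ∈ B, n - 1 ≤ f.rootMultiplicity a := by
    intro a ha
    suffices h' : n - 2 < f.rootMultiplicity a by omega
    refine (lt_rootMultiplicity_iff_isRoot_iterate_derivative_of_mem_nonZeroDivisors hf0 ?_).mpr ?_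
    · refine mem_nonZeroDivisors_of_ne_zero fun e => ?_
      have := (Nat.Prime.dvd_factorial hp.out).mp ((ZMod.natCast_eq_zero_iff _ _).mp e)
      omega
    intro j hj
    show (derivative^[j] f).eval a = 0
    rw [show f = ∑ b ∈ B, C (c b) * (X - C b) ^ N - 1 from rfl, iterate_derivative_sub,
      iterate_derivative_sum, eval_sub, eval_finset_sum]
    have hterm : ∀ b ∈ B, (derivative^[j] (C (c b) * (X - C b) ^ N)).eval a =
        (N.descFactorial j : ZMod p) * (c b * (a - b) ^ (n - 1 - j)) := by
      intro b hb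
      rw [iterate_derivative_C_mul, iterate_derivative_X_sub_pow, eval_mul, eval_C, eval_smul,
        eval_pow, eval_sub, eval_X, eval_C, nsmul_eq_mul]
      by_cases hab : a = b
      · subst hab
        rw [sub_self, zero_pow (by omega), zero_pow (by omega)]; ring
      · rw [show N - j = n - 1 - j + m by omega, pow_add, h a ha b hb hab]; ring
    rw [Finset.sum_congr rfl hterm, ← Finset.mul_sum, hc a _ (by omega)]
    rcases j with _ | j
    · simp
    · rw [if_neg (by omega), mul_zero, zero_sub, Function.iterate_succ_apply, derivative_one,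
        iterate_derivative_zero, eval_zero, neg_zero]
  calc n * (n - 1) = ∑ a ∈ B, (n - 1) := by rw [Finset.sum_const, smul_eq_mul, ← hn]
    _ ≤ ∑ a ∈ B, f.rootMultiplicity a := Finset.sum_le_sum hroot
    _ ≤ f.roots.card := by
        simp only [← count_roots]
        calc ∑ a ∈ B, f.roots.count a ≤ ∑ a ∈ B ∪ f.roots.toFinset, f.roots.count a :=
              Finset.sum_le_sum_of_subset Finset.subset_union_left
          _ = f.roots.card := Multiset.sum_count_eq_card (fun a ha =>
              Finset.mem_union_right _ (Multiset.mem_toFinset.mpr ha))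
    _ ≤ f.natDegree := card_roots' f
    _ ≤ m := hfdeg

end Cfsg.Agent.PrimeDegreePairs
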