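import Cfsg.Agent.Lib.Recog.PrimeDegreePairs.Bicirculant
import Cfsg.Agent.Lib.Recog.PrimeDegreePairs.Stepanov
import Cfsg.Agent.Lib.Recog.PrimeDegreePairs.Design
import Mathlib.RingTheory.IntegralDomain
import Mathlib.RingTheory.RootsOfUnity.PrimitiveRoots

/-!
# Strongly regular graphs on the non-zero residues invariant under squares and inversion
-/

set_option autoImplicit false

namespace Cfsg.Agent.PrimeDegreePairs

variable {p : ℕ} [hp : Fact p.Prime]

open scoped Classical in
/-- The number of common neighbours. -/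
noncomputable def common (R : ZMod p → ZMod p → Prop) (x y : ZMod p) : ℕ :=
  (Finset.univ.filter fun z => R x z ∧ R z y).card

/-- The data of the graph. -/
structure DGraph (R : ZMod p → ZMod p → Prop) : Prop where
  ne : ∀ {x y}, R x y → x ≠ 0 ∧ y ≠ 0 ∧ x ≠ y
  symm : ∀ {x y}, R x y → R y x
  mul : ∀ {x y s}, s ≠ 0 → IsSquare s → R x y → R (s * x) (s * y)
  inv : ∀ {x y}, R x y → R (-x⁻¹) (-y⁻¹)
  shift1 : ∀ {h}, R 1 h → R (-1) (h - 1)
  shift2 : ∀ {h}, R 1 h → R (-h) (1 - h)
  edge : ∀ {x y x' y'}, R x y → R x' y' → common R x y = common R x' y'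
  nonedge : ∀ {x y x' y'}, x ≠ 0 → y ≠ 0 → x ≠ y → ¬ R x y → x' ≠ 0 → y' ≠ 0 → x' ≠ y' →
    ¬ R x' y' → common R x y = common R x' y'

variable (hp3 : p % 4 = 3)

include hp3

lemma cross_of_edge {R : ZMod p → ZMod p → Prop} (D : DGraph R) {h : ZMod p} (hh : R 1 h)
    (hs : IsSquare h) : ∃ x, ¬ IsSquare x ∧ R 1 x := by
  have hh0 := (D.ne hh).2.1
  have h1 : h - 1 ≠ 0 := sub_ne_zero.mpr (D.ne hh).2.2.symm
  by_cases hd : IsSquare (h - 1)
  · have := D.inv (D.shift1 hh)
    rw [inv_neg, inv_one, neg_neg] at this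
    exact ⟨_, not_sq_neg hp3 (inv_ne_zero h1) hd.inv, this⟩
  · have hd' : IsSquare (1 - h) := by simpa using sq_neg_of_not_sq hp3 hd
    have h' := D.mul (inv_ne_zero hh0) hs.inv (D.shift2 hh)
    rw [mul_neg, inv_mul_cancel₀ hh0] at h'
    have := D.inv h'
    rw [inv_neg, inv_one, neg_neg] at this
    refine ⟨_, ?_, this⟩
    have hne : h⁻¹ * (1 - h) ≠ 0 := mul_ne_zero (inv_ne_zero hh0) (by simpa [sub_eq_zero] using (D.ne hh).2.2)
    exact not_sq_neg hp3 (inv_ne_zero hne) (hs.inv.mul hd').inv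

/-- A graph without edges between squares. -/
lemma subsingleton_of_no_inner {R : ZMod p → ZMod p → Prop} (D : DGraph R)
    (hA : ∀ x, IsSquare x → ¬ R 1 x) (hC : ∃ x, x ≠ 0 ∧ ¬ IsSquare x ∧ ¬ R 1 x) :
    ∀ x y, R 1 x → R 1 y → x = y := by
  classical
  intro x y hx hy
  by_contra hne
  have hxs : ¬ IsSquare x := fun h => hA x h hx
  have hys : ¬ IsSquare y := fun h => hA y h hy
  have hy0 := (D.ne hy).2.1
  have hx0 := (D.ne hx).2.1
  have hs : IsSquare (x / y) := by
    have := (sq_neg_of_not_sq hp3 hxs).mul (sq_neg_of_not_sq hp3 hys).inv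
    simpa [div_eq_mul_inv] using this
  have hs1 : x / y ≠ 1 := fun h => hne (by rwa [div_eq_one_iff_eq hy0] at h)
  have hcommon : 0 < common R 1 (x / y) := by
    have h' := D.mul (div_ne_zero hx0 hy0) hs hy
    rw [mul_one, div_mul_cancel₀ _ hy0] at h'
    exact Finset.card_pos.mpr ⟨x, Finset.mem_filter.mpr ⟨Finset.mem_univ _, hx, D.symm h'⟩⟩
  obtain ⟨z, hz0, hzs, hz⟩ := hC
  have hz1 : (1 : ZMod p) ≠ z := fun h => hzs (h ▸ IsSquare.one)
  have h0 : common R 1 z = 0 := by
    rw [common, Finset.card_eq_zero, Finset.filter_eq_empty_iff]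
    rintro w - ⟨h1, h2⟩
    have hws : ¬ IsSquare w := fun h => hA w h h1
    have h' := D.inv h2
    have hw' : IsSquare (-w⁻¹) := by simpa using (sq_neg_of_not_sq hp3 hws).inv
    have hz' : IsSquare (-z⁻¹) := by simpa using (sq_neg_of_not_sq hp3 hzs).inv
    have hw0 : -w⁻¹ ≠ 0 := by simpa using (D.ne h1).2.1
    have h'' := D.mul (inv_ne_zero hw0) hw'.inv h'
    rw [inv_mul_cancel₀ hw0] at h''
    exact hA _ (hw'.inv.mul hz') h''
  rw [D.nonedge one_ne_zero (div_ne_zero hx0 hy0) (Ne.symm hs1) (hA _ hs) one_ne_zero hz0 hz1 hz, h0] at hcommon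
  omega

open scoped Classical in
/-- Either the graph or its complement has valency one. -/
theorem dgraph_small {R R' : ZMod p → ZMod p → Prop} (D : DGraph R) (D' : DGraph R') (hp7 : 7 < p)
    (hcov : ∀ {x y}, x ≠ 0 → y ≠ 0 → x ≠ y → (R' x y ↔ ¬ R x y)) :
    (∀ x y, R 1 x → R 1 y → x = y) ∨ (∀ x y, R' 1 x → R' 1 y → x = y) := by
  haveI : NeZero p := ⟨hp.out.ne_zero⟩
  obtain ⟨g, hg⟩ := IsCyclic.exists_ofOrder_eq_natCard (α := (ZMod p)ˣ)
  rw [Nat.card_units, Nat.card_zmod] at hg
  set r := (p - 1) / 2 with hr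
  have hr2 : p - 1 = 2 * r := by omega
  haveI : NeZero r := ⟨by omega⟩
  have hrodd : Odd r := by rw [Nat.odd_iff]; omega
  let σ : ZMod p := ((g ^ 2 : (ZMod p)ˣ) : ZMod p)
  have hσ : IsPrimitiveRoot σ r := by
    have h := (IsPrimitiveRoot.orderOf g).pow (by rw [hg]; omega) (b := r) (hg.trans hr2)
    exact IsPrimitiveRoot.coe_units_iff.mpr h
  let π : ZMod r → ZMod p := fun i => σ ^ i.val
  have hπn : ∀ n : ℕ, π (n : ZMod r) = σ ^ n := fun n => by
    show σ ^ (n : ZMod r).val = σ ^ n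
    rw [ZMod.val_natCast, ← pow_eq_pow_mod n hσ.pow_eq_one]
  have hπadd : ∀ i j, π (i + j) = π i * π j := fun i j => by
    show _ = σ ^ i.val * σ ^ j.val
    rw [← pow_add, ← hπn, Nat.cast_add, ZMod.natCast_zmod_val, ZMod.natCast_zmod_val]
  have hπ1 : π 0 = 1 := by simp [π]
  have hπ0 : ∀ i, π i ≠ 0 := fun i => pow_ne_zero _ (by simp [σ])
  have hπsq : ∀ i, IsSquare (π i) := fun i => by
    refine IsSquare.pow _ ⟨(g : ZMod p), ?_⟩
    simp [σ, pow_two]
  have hπinj : Function.Injective π := fun i j h =>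
    ZMod.val_injective r (hσ.pow_inj (ZMod.val_lt i) (ZMod.val_lt j) h)
  have hπinv : ∀ i, (π i)⁻¹ = π (-i) := fun i => inv_eq_of_mul_eq_one_right (by rw [← hπadd, add_neg_cancel, hπ1])
  have hsurj : ∀ x : ZMod p, x ≠ 0 → IsSquare x → ∃ i, π i = x := by
    rintro x hx ⟨s, hs⟩
    have hs0 : s ≠ 0 := fun h => hx (by rw [hs, h, mul_zero])
    have hpow : x ^ r = 1 := by
      rw [hs, ← pow_two, ← pow_mul, ← hr2, ZMod.pow_card_sub_one_eq_one hs0]
    obtain ⟨i, -, hi⟩ := hσ.eq_pow_of_pow_eq_one hpow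
    exact ⟨i, by rw [hπn, hi]⟩
  have hsurj' : ∀ x : ZMod p, ¬ IsSquare x → ∃ i, -π i = x := by
    intro x hx
    obtain ⟨i, hi⟩ := hsurj (-x) (neg_ne_zero.mpr fun h => hx (h ▸ IsSquare.zero)) (sq_neg_of_not_sq hp3 hx)
    exact ⟨i, by rw [hi, neg_neg]⟩
  have hπns : ∀ i, ¬ IsSquare (-π i) := fun i => not_sq_neg hp3 (hπ0 i) (hπsq i)
  -- the general step
  have core : ∀ {S S' : ZMod p → ZMod p → Prop}, DGraph S → DGraph S' →
      (∀ {x y}, x ≠ 0 → y ≠ 0 → x ≠ y → (S' x y ↔ ¬ S x y)) → ¬ S 1 σ →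
      (∀ x y, S 1 x → S 1 y → x = y) ∨ (∀ x y, S' 1 x → S' 1 y → x = y) := by
    intro S S' E E' hcv hgen
    let a : ZMod r → ℤ := fun i => if S 1 (π i) then 1 else 0
    let c : ZMod r → ℤ := fun i => if S 1 (-π i) then 1 else 0
    have hscale : ∀ (j : ZMod r) (x y : ZMod p), S (π j * x) (π j * y) ↔ S x y := fun j x y =>
      ⟨fun h => by
        have := E.mul (inv_ne_zero (hπ0 j)) (hπsq j).inv h
        rwa [inv_mul_cancel_left₀ (hπ0 j), inv_mul_cancel_left₀ (hπ0 j)] at this,
       fun h => E.mul (hπ0 j) (hπsq j) h⟩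
    have hinv : ∀ x y, S (-x⁻¹) (-y⁻¹) ↔ S x y := fun x y =>
      ⟨fun h => by simpa [inv_neg] using E.inv h, E.inv⟩
    have hSS : ∀ i j, S (π i) (π j) ↔ S 1 (π (j - i)) := fun i j => by
      rw [← hscale i 1, mul_one, ← hπadd, add_sub_cancel]
    have hSN : ∀ i j, S (π i) (-π j) ↔ S 1 (-π (j - i)) := fun i j => by
      rw [← hscale i 1, mul_one, mul_neg, ← hπadd, add_sub_cancel]
    have hsy : ∀ x y, S x y ↔ S y x := fun x y => ⟨E.symm, E.symm⟩
    have hNN : ∀ i j, S (-π i) (-π j) ↔ S 1 (π (i - j)) := fun i j => by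
      rw [← hinv, inv_neg, inv_neg, neg_neg, neg_neg, hπinv, hπinv, hSS, neg_sub_neg]
    have hasym : ∀ i, a (-i) = a i := fun i => by
      refine if_congr ?_ rfl rfl
      rw [← hπ1, hsy, hπ1]
      conv_lhs => rw [← hπ1]
      rw [hSS, zero_sub, neg_neg]
    have hcommon : ∀ x y, ((common S x y : ℕ) : ℤ) = ∑ i, (if S x (π i) ∧ S (π i) y then 1 else 0) +
        ∑ i, (if S x (-π i) ∧ S (-π i) y then 1 else 0) := by
      intro x y
      rw [common, Finset.natCast_card_filter]
      let F : ZMod r ⊕ ZMod r → ZMod p := Sum.elim π fun i => -π i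
      refine Eq.trans ?_ (Fintype.sum_sum_type (fun s : ZMod r ⊕ ZMod r => if S x (F s) ∧ S (F s) y then (1 : ℤ) else 0))
      refine (Finset.sum_bij_ne_zero (fun s _ _ => F s) (fun _ _ _ => Finset.mem_univ _) ?_ ?_ (fun _ _ _ => rfl)).symm
      · rintro (i | i) - - (j | j) - - h <;> simp only [F, Sum.elim_inl, Sum.elim_inr] at h
        · exact congrArg Sum.inl (hπinj h)
        · exact absurd (h ▸ hπsq i) (hπns j)
        · exact absurd (h.symm ▸ hπsq j) (hπns i)
        · exact congrArg Sum.inr (hπinj (neg_injective h))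
      · intro z _ hz
        have hz' : S x z ∧ S z y := by
          by_contra h; exact hz (if_neg h)
        by_cases hzs : IsSquare z
        · obtain ⟨i, rfl⟩ := hsurj z (E.ne hz'.1).2.1 hzs
          exact ⟨Sum.inl i, Finset.mem_univ _, hz, rfl⟩
        · obtain ⟨i, rfl⟩ := hsurj' z hzs
          exact ⟨Sum.inr i, Finset.mem_univ _, hz, rfl⟩
    -- the parameters
    obtain ⟨μ, hμ⟩ : ∃ μ : ℤ, ∀ x y, x ≠ 0 → y ≠ 0 → x ≠ y → ¬ S x y → (common S x y : ℤ) = μ := by
      by_cases h : ∃ x y, x ≠ 0 ∧ y ≠ 0 ∧ x ≠ y ∧ ¬ S x y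
      · obtain ⟨x, y, h1, h2, h3, h4⟩ := h
        exact ⟨common S x y, fun x' y' g1 g2 g3 g4 => by rw [E.nonedge g1 g2 g3 g4 h1 h2 h3 h4]⟩
      · exact ⟨0, fun x y h1 h2 h3 h4 => absurd ⟨x, y, h1, h2, h3, h4⟩ h⟩
    obtain ⟨lam, hlam⟩ : ∃ lam : ℤ, ∀ x y, S x y → (common S x y : ℤ) = lam := by
      by_cases h : ∃ x y, S x y
      · obtain ⟨x, y, h⟩ := h
        exact ⟨common S x y, fun x' y' g => by rw [E.edge g h]⟩
      · exact ⟨0, fun x y g => absurd ⟨x, y, g⟩ h⟩
    have hval : ∀ y, y ≠ 0 → (common S 1 y : ℤ) =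
        μ + (if y = 1 then (common S 1 1 : ℤ) - μ else 0) + (lam - μ) * (if S 1 y then 1 else 0) := by
      intro y hy
      by_cases h1 : y = 1
      · subst h1; rw [if_pos rfl, if_neg (fun h => (E.ne h).2.2 rfl)]; ring
      by_cases hS : S 1 y
      · rw [hlam 1 y hS, if_neg h1, if_pos hS]; ring
      · rw [hμ 1 y one_ne_zero hy (Ne.symm h1) hS, if_neg h1, if_neg hS]; ring
    have hboole : ∀ (P Q : Prop), (if P ∧ Q then (1 : ℤ) else 0) = (if P then 1 else 0) * if Q then 1 else 0 := by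
      intro P Q; by_cases P <;> by_cases Q <;> simp [*]
    have e1 : ∀ j, ∑ i, a i * a (i - j) + ∑ i, c i * c (i - j) =
        μ + (if j = 0 then (common S 1 1 : ℤ) - μ else 0) + (lam - μ) * a j := by
      intro j
      have h := hval (π j) (hπ0 j)
      have hpj : π j = 1 ↔ j = 0 := ⟨fun e => hπinj (e.trans hπ1.symm), fun e => by rw [e, hπ1]⟩
      rw [hcommon 1 (π j)] at h
      simp only [hpj] at h
      rw [← h]
      congr 1 <;> refine Finset.sum_congr rfl fun i _ => ?_ <;> rw [hboole] <;> congr 1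
      · exact if_congr (by rw [hsy (π i) (π j), hSS]) rfl rfl
      · exact if_congr (by rw [hsy (-π i) (π j), hSN]) rfl rfl
    have e2 : ∀ j, 2 * ∑ i, a i * c (j - i) = μ + (lam - μ) * c j := by
      intro j
      have h := hval (-π j) (neg_ne_zero.mpr (hπ0 j))
      rw [hcommon 1 (-π j), if_neg (show ¬ (-π j = 1) from fun e => hπns j (by rw [e]; exact IsSquare.one)), add_zero] at h
      rw [← h, two_mul]
      congr 1
      · refine Finset.sum_congr rfl fun i _ => ?_
        rw [hboole]; congr 1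
        exact if_congr (hSN i j).symm rfl rfl
      · refine Fintype.sum_equiv (Equiv.subLeft j) _ _ fun i => ?_
        simp only [Equiv.subLeft_apply, hboole]
        rw [mul_comm (a i)]
        congr 1
        refine if_congr ?_ rfl rfl
        rw [hNN, sub_sub_cancel_left]
        show S 1 (π i) ↔ S 1 (π (-i))
        have := hasym i
        simp only [a] at this
        constructor <;> intro hh <;> by_contra hn <;> simp [hh, hn] at this
    rcases bicirculant hrodd a c (common S 1 1) (lam - μ) μ (fun i => by simp only [a]; split <;> simp)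
        hasym (by
          show (if S 1 (π 1) then (1 : ℤ) else 0) = 0
          rw [if_neg]
          rw [show (1 : ZMod r) = ((1 : ℕ) : ZMod r) from Nat.cast_one.symm, hπn, pow_one]; exact hgen) e1 e2 with hc | ⟨N, hN, hNlt, hNiff⟩
    · by_cases h0 : S 1 (-π 0)
      · right
        intro x y hx hy
        exfalso
        have hall : ∀ z, ¬ IsSquare z → ¬ S' 1 z := by
          intro z hz h'
          obtain ⟨i, rfl⟩ := hsurj' z hz
          refine (hcv one_ne_zero (neg_ne_zero.mpr (hπ0 i)) (E'.ne h').2.2).mp h' ?_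
          have := hc i 0
          simp only [c, if_pos h0] at this
          by_contra hn; simp [hn] at this
        have hxs : IsSquare x := by by_contra hxs; exact hall x hxs hx
        obtain ⟨z, hz, hz'⟩ := cross_of_edge hp3 E' hx hxs
        exact hall z hz hz'
      · left
        intro x y hx hy
        exfalso
        have hall : ∀ z, ¬ IsSquare z → ¬ S 1 z := by
          intro z hz h'
          obtain ⟨i, rfl⟩ := hsurj' z hz
          have := hc i 0
          simp only [c, if_pos h', if_neg h0] at this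
          exact one_ne_zero this
        have hxs : IsSquare x := by by_contra hxs; exact hall x hxs hx
        obtain ⟨z, hz, hz'⟩ := cross_of_edge hp3 E hx hxs
        exact hall z hz hz'
    -- the neighbours of `1` among the squares are the `N`-th roots of unity
    have hNr := Nat.dvd_of_mem_divisors hN
    have hH : ∀ x, IsSquare x → x ≠ 0 → x ≠ 1 → (S 1 x ↔ x ^ N = 1) := by
      intro x hxs hx0 hx1
      obtain ⟨i, rfl⟩ := hsurj x hx0 hxs
      have hi0 : i ≠ 0 := fun e => hx1 (e ▸ hπ1)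
      have hpow : ∀ n : ℕ, π i ^ n = π (n • i) := by
        intro n
        induction n with
        | zero => simp [hπ1]
        | succ n ih => rw [pow_succ, ih, ← hπadd, succ_nsmul]
      rw [hpow]
      have h := hNiff i hi0
      simp only [a] at h
      rw [show (π (N • i) = 1 ↔ N • i = 0) from ⟨fun e => hπinj (e.trans hπ1.symm), fun e => e ▸ hπ1⟩, ← h]
      constructor
      · intro hh; rw [if_pos hh]
      · intro hh; by_contra hn; rw [if_neg hn] at hh; exact zero_ne_one hh
    by_cases hN1 : N = 1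
    · subst hN1
      have hA : ∀ x, IsSquare x → ¬ S 1 x := fun x hxs hx =>
        (E.ne hx).2.2 (by simpa using ((hH x hxs (E.ne hx).2.1 (E.ne hx).2.2.symm).mp hx).symm)
      by_cases hC : ∃ x, x ≠ 0 ∧ ¬ IsSquare x ∧ ¬ S 1 x
      · exact Or.inl (subsingleton_of_no_inner hp3 E hA hC)
      · push Not at hC
        refine Or.inr fun x y hx hy => ?_
        exfalso
        have hall : ∀ z, ¬ IsSquare z → ¬ S' 1 z := fun z hz h' =>
          (hcv one_ne_zero (E'.ne h').2.1 (E'.ne h').2.2).mp h' (hC z (E'.ne h').2.1 hz)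
        have hxs : IsSquare x := by by_contra hxs; exact hall x hxs hx
        obtain ⟨z, hz, hz'⟩ := cross_of_edge hp3 E' hx hxs
        exact hall z hz hz'
    exfalso
    have hN0 : 0 < N := Nat.pos_of_mem_divisors hN
    have hNlt' : N < r := hNlt.resolve_right (by omega)
    have hN3 : 3 * N ≤ r := by
      obtain ⟨q, hq⟩ := hNr
      have hq2 : q ≠ 2 := fun e => by
        rw [hq, e] at hrodd; exact (Nat.not_even_iff_odd.mpr hrodd) ⟨N, by ring⟩
      have hq3 : 3 ≤ q := by
        rcases q with _ | _ | _ | q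
        · omega
        · omega
        · exact absurd rfl hq2
        · omega
      calc 3 * N ≤ q * N := Nat.mul_le_mul_right _ hq3
        _ = r := by rw [hq, mul_comm]
    have hNodd : Odd N := hrodd.of_dvd_nat hNr
    have hroot_sq : ∀ x : ZMod p, x ^ N = 1 → IsSquare x := fun x hx => by
      obtain ⟨t, ht⟩ := hNodd
      refine ⟨x ^ (t + 1), ?_⟩
      rw [← pow_add, show t + 1 + (t + 1) = N + 1 by omega, pow_succ, hx, one_mul]
    have hdiff : ∀ u : ZMod p, u ^ N = 1 → u ≠ 1 → (u - 1) ^ (2 * N) = 1 := by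
      intro u hu hu1
      have hu0 : u ≠ 0 := fun e => by rw [e, zero_pow hN0.ne'] at hu; exact zero_ne_one hu
      have hus := hroot_sq u hu
      have hSu := (hH u hus hu0 hu1).mpr hu
      have hu1' : u - 1 ≠ 0 := sub_ne_zero.mpr hu1
      by_cases hd : IsSquare (u - 1)
      · have h := E.mul hu0 hus (E.inv (E.shift2 hSu))
        rw [inv_neg, neg_neg, mul_inv_cancel₀ hu0] at h
        have hy : u * -(1 - u)⁻¹ = u / (u - 1) := by rw [← inv_neg, neg_sub, div_eq_mul_inv]
        rw [hy] at h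
        have h' := (hH _ (by rw [div_eq_mul_inv]; exact hus.mul hd.inv) (div_ne_zero hu0 hu1') (E.ne h).2.2.symm).mp h
        rw [div_pow, hu, one_div, inv_eq_one] at h'
        rw [mul_comm, pow_mul, h', one_pow]
      · have hd' : IsSquare (1 - u) := by simpa using sq_neg_of_not_sq hp3 hd
        have h := E.inv (E.shift1 hSu)
        rw [inv_neg, inv_one, neg_neg, ← inv_neg, neg_sub] at h
        have h' := (hH _ hd'.inv (E.ne h).2.1 (E.ne h).2.2.symm).mp h
        rw [inv_pow, inv_eq_one] at h'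
        rw [← neg_sub 1 u, Even.neg_pow ⟨N, two_mul N⟩, mul_comm, pow_mul, h', one_pow]
    let B : Finset (ZMod p) := insert 0 (Polynomial.nthRootsFinset N (1 : ZMod p))
    have hprim : IsPrimitiveRoot (σ ^ (r / N)) N := by
      have := hσ.pow_of_dvd (Nat.div_pos hNlt'.le hN0).ne' (Nat.div_dvd_of_dvd hNr)
      rwa [Nat.div_div_self hNr (NeZero.ne r)] at this
    have memroot : ∀ {x}, x ∈ Polynomial.nthRootsFinset N (1 : ZMod p) ↔ x ^ N = 1 := fun {x} =>
      Polynomial.mem_nthRootsFinset hN0 _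
    have hBcard : B.card = N + 1 := by
      rw [Finset.card_insert_of_notMem, hprim.card_nthRootsFinset]
      intro h
      rw [memroot, zero_pow hN0.ne'] at h
      exact zero_ne_one h
    have hbound := card_mul_pred_le B (m := 2 * N) (by omega) (by omega) (by omega) (by
      intro x hx y hy hxy
      rw [Finset.mem_insert, memroot] at hx hy
      rcases hx with rfl | hx <;> rcases hy with rfl | hy
      · exact absurd rfl hxy
      · rw [zero_sub, Even.neg_pow ⟨N, two_mul N⟩, mul_comm, pow_mul, hy, one_pow]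
      · rw [sub_zero, mul_comm, pow_mul, hx, one_pow]
      · have hy0 : y ≠ 0 := fun e => by rw [e, zero_pow hN0.ne'] at hy; exact zero_ne_one hy
        have h := hdiff (x / y) (by rw [div_pow, hx, hy, one_div, inv_one])
          (fun e => hxy (by rwa [div_eq_one_iff_eq hy0] at e))
        rw [div_sub_one hy0, div_pow, mul_comm, pow_mul y, pow_mul (x - y)] at h
        rw [hy, one_pow, div_one] at h
        rw [mul_comm, pow_mul]
        exact h)
    rw [hBcard, Nat.add_sub_cancel] at hbound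
    have hN2 : 2 ≤ N := by omega
    nlinarith
  have hσ1 : σ ≠ 1 := fun e => by
    have := hσ.eq_orderOf
    rw [e, orderOf_one] at this
    omega
  by_cases h : R 1 σ
  · refine (core D' D (fun hx hy hxy => by rw [hcov hx hy hxy, not_not]) ?_).symm
    intro h'
    exact (hcov one_ne_zero (D.ne h).2.1 (Ne.symm hσ1)).mp h' h
  · exact core D D' hcov h

end Cfsg.Agent.PrimeDegreePairs
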