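import Mathlib.NumberTheory.Divisors
import Mathlib.Tactic.Linarith
import Mathlib.Tactic.Ring
import Mathlib.Tactic.LinearCombination
import Mathlib.Data.Nat.Factorization.Basic
import Mathlib.RingTheory.Coprime.Lemmas

/-!
# A combinatorial lemma on rational-valued sets in a cyclic group

If all divisor sums `v` of an integral table `B` lie in `{0, n, -n}` and the attached class
function `a` is a `0`-`1` function, then `a` is the indicator of a subgroup.
-/

set_option autoImplicit false

namespace Cfsg.Agent.PrimeDegreePairs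

theorem class_table (r : ℕ) (hr : Odd r) (a B : ℕ → ℤ) (n : ℤ)
    (ha01 : ∀ d ∈ r.divisors, 1 < d → a d = 0 ∨ a d = 1) (har : a r = 0)
    (ha : ∀ M ∈ r.divisors, 1 < M →
      (r : ℤ) * a M = ∑ d ∈ r.divisors.filter (fun d => M ∣ d), B d * ((r / d : ℕ) : ℤ))
    (hv : ∀ M ∈ r.divisors, M < r → (∑ d ∈ M.divisors, B d = 0 ∨ ∑ d ∈ M.divisors, B d = n ∨
      ∑ d ∈ M.divisors, B d = -n)) :
    ∃ N ∈ r.divisors, (N < r ∨ r = 1) ∧ ∀ d ∈ r.divisors, 1 < d → (a d = 1 ↔ d ∣ N) := by
  classical
  have hr0 : r ≠ 0 := by rintro rfl; simp at hr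
  have memd : ∀ {d}, d ∈ r.divisors ↔ d ∣ r := by intro d; simp [hr0]
  -- integrality of the table
  have hdvd : ∀ d ∈ r.divisors, 1 < d → ∃ b : ℤ, B d = d * b := by
    suffices h : ∀ k d, r - d ≤ k → d ∈ r.divisors → 1 < d → ∃ b : ℤ, B d = d * b from
      fun d => h (r - d) d le_rfl
    intro k
    induction k using Nat.strong_induction_on with
    | _ k ih =>
      intro M hk hM hM1
      have hMr := Nat.le_of_dvd (Nat.pos_of_ne_zero hr0) (memd.mp hM)
      have h := ha M hM hM1
      rw [← Finset.add_sum_erase _ _ (Finset.mem_filter.mpr ⟨hM, dvd_rfl⟩)] at h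
      have hrest : (r : ℤ) ∣ ∑ d ∈ (r.divisors.filter (fun d => M ∣ d)).erase M, B d * ((r / d : ℕ) : ℤ) := by
        refine Finset.dvd_sum fun d hd => ?_
        obtain ⟨hne, hd'⟩ := Finset.mem_erase.mp hd
        obtain ⟨hd, hMd⟩ := Finset.mem_filter.mp hd'
        have hdr := Nat.le_of_dvd (Nat.pos_of_ne_zero hr0) (memd.mp hd)
        have hlt : M < d := lt_of_le_of_ne (Nat.le_of_dvd (Nat.pos_of_mem_divisors hd) hMd) (Ne.symm hne)
        obtain ⟨b, hb⟩ := ih (r - d) (by omega) d le_rfl hd (by omega)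
        refine ⟨b, ?_⟩
        rw [hb, mul_right_comm, ← Nat.cast_mul, Nat.mul_div_cancel' (memd.mp hd)]
      obtain ⟨c, hc⟩ := hrest
      refine ⟨a M - c, ?_⟩
      have hpos : ((r / M : ℕ) : ℤ) ≠ 0 := by
        have := Nat.div_pos hMr (by omega)
        omega
      refine mul_right_cancel₀ hpos ?_
      rw [hc] at h
      have hsplit : (r : ℤ) = (M : ℤ) * ((r / M : ℕ) : ℤ) := by
        rw [← Nat.cast_mul, Nat.mul_div_cancel' (memd.mp hM)]
      linear_combination -h + (a M - c) * hsplit
  have hb : ∀ d, ∃ b : ℤ, (d ∈ r.divisors → 1 < d → B d = d * b) := fun d => by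
    by_cases h : d ∈ r.divisors ∧ 1 < d
    · obtain ⟨b, hb⟩ := hdvd d h.1 h.2; exact ⟨b, fun _ _ => hb⟩
    · exact ⟨0, fun h1 h2 => absurd ⟨h1, h2⟩ h⟩
  choose b hb using hb
  have hab : ∀ M ∈ r.divisors, 1 < M → a M = ∑ d ∈ r.divisors.filter (fun d => M ∣ d), b d := by
    intro M hM hM1
    refine mul_left_cancel₀ (Int.natCast_ne_zero.mpr hr0) ?_
    rw [ha M hM hM1, Finset.mul_sum]
    refine Finset.sum_congr rfl fun d hd => ?_
    obtain ⟨hd, hMd⟩ := Finset.mem_filter.mp hd
    have hlt : 1 < d := lt_of_lt_of_le hM1 (Nat.le_of_dvd (Nat.pos_of_mem_divisors hd) hMd)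
    rw [hb d hd hlt, mul_right_comm, ← Nat.cast_mul, Nat.mul_div_cancel' (memd.mp hd)]
  -- multiples of unsupported classes
  have hzero : ∀ M ∈ r.divisors, 1 < M → (∀ d ∈ r.divisors, M ∣ d → a d = 0) → b M = 0 := by
    suffices h : ∀ k M, r - M ≤ k → M ∈ r.divisors → 1 < M →
        (∀ d ∈ r.divisors, M ∣ d → a d = 0) → b M = 0 from fun M => h (r - M) M le_rfl
    intro k
    induction k using Nat.strong_induction_on with
    | _ k ih =>
      intro M hk hM hM1 hall
      have h := hab M hM hM1
      rw [hall M hM dvd_rfl, ← Finset.add_sum_erase _ _ (Finset.mem_filter.mpr ⟨hM, dvd_rfl⟩),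
        Finset.sum_eq_zero, add_zero] at h
      · exact h.symm
      intro d hd
      obtain ⟨hne, hd'⟩ := Finset.mem_erase.mp hd
      obtain ⟨hd, hMd⟩ := Finset.mem_filter.mp hd'
      have hdr := Nat.le_of_dvd (Nat.pos_of_ne_zero hr0) (memd.mp hd)
      have hlt : M < d := lt_of_le_of_ne (Nat.le_of_dvd (Nat.pos_of_mem_divisors hd) hMd) (Ne.symm hne)
      exact ih (r - d) (by omega) d le_rfl hd (by omega) fun e he hde => hall e he (hMd.trans hde)
  -- all proper entries are divisible by `n`
  have hnB : ∀ M ∈ r.divisors, M < r → n ∣ B M := by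
    intro M
    induction M using Nat.strong_induction_on with
    | _ M ih =>
      intro hM hMr
      have h := hv M hM hMr
      have hn' : n ∣ ∑ d ∈ M.divisors, B d := by rcases h with h | h | h <;> rw [h] <;> simp
      rw [← Finset.add_sum_erase _ _ (Nat.mem_divisors_self M (Nat.pos_of_mem_divisors hM).ne')] at hn'
      refine (dvd_add_left ?_).mp hn'
      refine Finset.dvd_sum fun d hd => ?_
      obtain ⟨hne, hd⟩ := Finset.mem_erase.mp hd
      have hdM := Nat.dvd_of_mem_divisors hd
      have hlt : d < M := lt_of_le_of_ne (Nat.le_of_dvd (Nat.pos_of_mem_divisors hM) hdM) hne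
      exact ih d hlt (memd.mpr (hdM.trans (memd.mp hM))) (hlt.trans hMr)
  -- a maximal class of the support has order `n`
  have hmax : ∀ M ∈ r.divisors, 1 < M → a M = 1 → (∀ d ∈ r.divisors, M ∣ d → d ≠ M → a d = 0) →
      M = n.natAbs := by
    intro M hM hM1 haM hmaxM
    have hMr : M < r := by
      refine lt_of_le_of_ne (Nat.le_of_dvd (Nat.pos_of_ne_zero hr0) (memd.mp hM)) fun e => ?_
      rw [e, har] at haM; norm_num at haM
    have hbM : b M = 1 := by
      have h := hab M hM hM1
      rw [haM, ← Finset.add_sum_erase _ _ (Finset.mem_filter.mpr ⟨hM, dvd_rfl⟩),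
        Finset.sum_eq_zero, add_zero] at h
      · exact h.symm
      intro d hd
      obtain ⟨hne, hd'⟩ := Finset.mem_erase.mp hd
      obtain ⟨hd, hMd⟩ := Finset.mem_filter.mp hd'
      have hlt : M < d := lt_of_le_of_ne (Nat.le_of_dvd (Nat.pos_of_mem_divisors hd) hMd) (Ne.symm hne)
      refine hzero d hd (by omega) fun e he hde => hmaxM e he (hMd.trans hde) ?_
      exact (lt_of_lt_of_le hlt (Nat.le_of_dvd (Nat.pos_of_mem_divisors he) hde)).ne'
    have hBM : B M = M := by rw [hb M hM hM1, hbM, mul_one]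
    refine Nat.dvd_antisymm ?_ (by
      have := hnB M hM hMr
      rw [hBM] at this
      exact Int.natCast_dvd_natCast.mp (Int.natAbs_dvd.mpr this))
    rw [Nat.dvd_iff_prime_pow_dvd_dvd]
    intro q v hq hqv
    by_contra hqn
    rcases v with _ | v₀
    · simp at hqn
    -- the full power of `q` in `M`
    obtain ⟨w, m', hm', hMw⟩ := Nat.exists_eq_pow_mul_and_not_dvd (Nat.pos_of_mem_divisors hM).ne' q hq.ne_one
    set Q := q ^ w with hQ
    have hQM : Q ∣ M := ⟨m', hMw⟩
    have hvw : v₀ + 1 ≤ w := by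
      by_contra hlt
      have h1 : q ^ (w + 1) ∣ q ^ w * m' := hMw ▸ (pow_dvd_pow q (by omega)).trans hqv
      rw [pow_succ] at h1
      exact hm' (Nat.dvd_of_mul_dvd_mul_left (pow_pos hq.pos w) h1)
    have hQn : ¬ Q ∣ n.natAbs := fun h => hqn ((pow_dvd_pow q hvw).trans h)
    have hqodd : q ≠ 2 := by
      intro e
      subst e
      have h2r : 2 ∣ r := ((dvd_pow_self 2 (by omega : v₀ + 1 ≠ 0)).trans hqv).trans (memd.mp hM)
      exact (Nat.not_even_iff_odd.mpr hr) (even_iff_two_dvd.mpr h2r)
    have hall : ∀ D, D ∣ M → Q ∣ D → B D = 0 := by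
      intro D
      induction D using Nat.strong_induction_on with
      | _ D ih =>
        intro hDM hQD
        have hD0 : D ≠ 0 := fun e => by
          rw [e, zero_dvd_iff] at hDM; omega
        have hDr : D ∈ r.divisors := memd.mpr (hDM.trans (memd.mp hM))
        have hD' : D / q ∈ r.divisors := memd.mpr (((Nat.div_dvd_of_dvd
          ((dvd_pow_self q (by omega : w ≠ 0)).trans hQD)).trans hDM).trans (memd.mp hM))
        have hDlt : D < r := lt_of_le_of_lt (Nat.le_of_dvd (by omega) hDM) hMr
        have hsub : (D / q).divisors = D.divisors.filter (fun d => ¬ Q ∣ d) := by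
          have hqD : q ∣ D := (dvd_pow_self q (by omega : w ≠ 0)).trans hQD
          have hDq0 : D / q ≠ 0 := (Nat.div_pos (Nat.le_of_dvd (Nat.pos_of_ne_zero hD0) hqD) hq.pos).ne'
          ext d
          simp only [Nat.mem_divisors, Finset.mem_filter, ne_eq, hDq0, not_false_eq_true, and_true,
            hD0]
          constructor
          · intro hd
            refine ⟨hd.trans (Nat.div_dvd_of_dvd hqD), fun hQd => ?_⟩
            have h1 : Q * q ∣ D := by
              rw [← Nat.div_mul_cancel hqD]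
              exact mul_dvd_mul_right (hQd.trans hd) q
            have h2 : Q * q ∣ Q * m' := hMw ▸ h1.trans hDM
            exact hm' (Nat.dvd_of_mul_dvd_mul_left (pow_pos hq.pos w) h2)
          · rintro ⟨hd, hQd⟩
            obtain ⟨c, hc⟩ := hd
            have hqc : q ∣ c := by
              by_contra hqc
              apply hQd
              have hcop : Nat.Coprime Q c := ((Nat.Prime.coprime_iff_not_dvd hq).mpr hqc).pow_left w
              exact hcop.dvd_of_dvd_mul_right (hc ▸ hQD)
            obtain ⟨c', rfl⟩ := hqc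
            exact ⟨c', by rw [hc, show d * (q * c') = d * c' * q by ring, Nat.mul_div_cancel _ hq.pos]⟩
        have hdiff : ∑ d ∈ D.divisors.filter (fun d => Q ∣ d), B d =
            ∑ d ∈ D.divisors, B d - ∑ d ∈ (D / q).divisors, B d := by
          rw [hsub, ← Finset.sum_filter_add_sum_filter_not D.divisors (fun d => Q ∣ d) B]; ring
        have hQdvd : (Q : ℤ) ∣ ∑ d ∈ D.divisors.filter (fun d => Q ∣ d), B d := by
          refine Finset.dvd_sum fun d hd => ?_
          obtain ⟨hd, hQd⟩ := Finset.mem_filter.mp hd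
          have hdr : d ∈ r.divisors := memd.mpr (((Nat.dvd_of_mem_divisors hd).trans hDM).trans (memd.mp hM))
          have hd1 : 1 < d := lt_of_lt_of_le (Nat.one_lt_pow (by omega) hq.one_lt) (Nat.le_of_dvd (Nat.pos_of_mem_divisors hd) hQd)
          rw [hb d hdr hd1]
          exact Dvd.dvd.mul_right (Int.natCast_dvd_natCast.mpr hQd) _
        have h0 : ∑ d ∈ D.divisors.filter (fun d => Q ∣ d), B d = 0 := by
          by_contra hne
          apply hQn
          have hn2 : (Q : ℤ) ∣ 2 * n ∨ (Q : ℤ) ∣ n := by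
            rw [hdiff] at hQdvd hne
            rcases hv D hDr hDlt with h1 | h1 | h1 <;>
              rcases hv (D / q) hD' (lt_of_le_of_lt (Nat.div_le_self _ _) hDlt) with h2 | h2 | h2 <;>
              rw [h1, h2] at hQdvd hne <;>
              first
                | exact absurd (sub_self _) hne
                | exact Or.inr (by simpa using hQdvd)
                | exact Or.inl (by simpa [sub_neg_eq_add, ← two_mul] using hQdvd)
                | exact Or.inl (dvd_neg.mp ((show -n - n = -(2 * n) by omega) ▸ hQdvd))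
          rcases hn2 with h | h
          · have h' : Q ∣ 2 * n.natAbs := by
              have := Int.natAbs_dvd_natAbs.mpr h
              simpa [Int.natAbs_mul] using this
            exact (((Nat.coprime_primes hq Nat.prime_two).mpr hqodd).pow_left w).dvd_of_dvd_mul_left h'
          · exact by simpa using Int.natAbs_dvd_natAbs.mpr h
        rw [← Finset.add_sum_erase _ _ (Finset.mem_filter.mpr ⟨Nat.mem_divisors_self D hD0, hQD⟩),
          Finset.sum_eq_zero, add_zero] at h0
        · exact h0
        intro d hd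
        obtain ⟨hne, hd⟩ := Finset.mem_erase.mp hd
        obtain ⟨hd, hQd⟩ := Finset.mem_filter.mp hd
        exact ih d (lt_of_le_of_ne (Nat.le_of_dvd (Nat.pos_of_ne_zero hD0) (Nat.dvd_of_mem_divisors hd)) hne)
          ((Nat.dvd_of_mem_divisors hd).trans hDM) hQd
    have := hall M dvd_rfl hQM
    rw [hBM] at this
    omega
  -- the support
  by_cases hsupp : ∀ d ∈ r.divisors, 1 < d → a d = 0
  · refine ⟨1, memd.mpr (one_dvd r), (Nat.eq_or_lt_of_le (Nat.pos_of_ne_zero hr0)).symm.imp id Eq.symm, ?_⟩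
    intro d hd hd1
    rw [hsupp d hd hd1, Nat.dvd_one]
    constructor
    · intro h; norm_num at h
    · omega
  push Not at hsupp
  have above : ∀ d ∈ r.divisors, 1 < d → a d = 1 → d ∣ n.natAbs ∧ n.natAbs ∈ r.divisors ∧ a n.natAbs = 1 := by
    intro d hd hd1 had
    obtain ⟨M, hM, hmaxM⟩ := (r.divisors.filter fun e => d ∣ e ∧ a e = 1).exists_maximal
      ⟨d, Finset.mem_filter.mpr ⟨hd, dvd_rfl, had⟩⟩
    obtain ⟨hMd, hdM, haM⟩ := Finset.mem_filter.mp hM
    have hM1 : 1 < M := lt_of_lt_of_le hd1 (Nat.le_of_dvd (Nat.pos_of_mem_divisors hMd) hdM)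
    have hMn := hmax M hMd hM1 haM fun e he hMe hne => by
      rcases ha01 e he (lt_of_lt_of_le hM1 (Nat.le_of_dvd (Nat.pos_of_mem_divisors he) hMe)) with h | h
      · exact h
      · exfalso
        have hle := Nat.le_of_dvd (Nat.pos_of_mem_divisors he) hMe
        exact hne (le_antisymm (hmaxM (Finset.mem_filter.mpr ⟨he, hdM.trans hMe, h⟩) hle) hle)
    exact ⟨hMn ▸ hdM, hMn ▸ hMd, hMn ▸ haM⟩
  obtain ⟨d₀, hd₀, hd₀1, hd₀a⟩ := hsupp
  obtain ⟨hd₀n, hNr, haN⟩ := above d₀ hd₀ hd₀1 ((ha01 d₀ hd₀ hd₀1).resolve_left hd₀a)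
  set N := n.natAbs
  have hN1 : 1 < N := lt_of_lt_of_le hd₀1 (Nat.le_of_dvd (Nat.pos_of_mem_divisors hNr) hd₀n)
  have hNlt : N < r := by
    refine lt_of_le_of_ne (Nat.le_of_dvd (Nat.pos_of_ne_zero hr0) (memd.mp hNr)) fun e => ?_
    rw [e, har] at haN; norm_num at haN
  refine ⟨N, hNr, Or.inl hNlt, fun d hd hd1 => ⟨fun h => (above d hd hd1 h).1, ?_⟩⟩
  have key : ∀ k M, N - M ≤ k → M ∈ r.divisors → 1 < M → M ∣ N → a M = 1 ∧ (M ≠ N → b M = 0) := by
    intro k
    induction k using Nat.strong_induction_on with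
    | _ k ih =>
      intro M hk hM hM1 hMN
      by_cases hMNe : M = N
      · exact ⟨hMNe ▸ haN, fun h => absurd hMNe h⟩
      have hMlt : M < N := lt_of_le_of_ne (Nat.le_of_dvd (by omega) hMN) hMNe
      have hbN : b N = 1 := by
        have h := hab N hNr hN1
        rw [haN, ← Finset.add_sum_erase _ _ (Finset.mem_filter.mpr ⟨hNr, dvd_rfl⟩),
          Finset.sum_eq_zero, add_zero] at h
        · exact h.symm
        intro d hd
        obtain ⟨hne, hd'⟩ := Finset.mem_erase.mp hd
        obtain ⟨hd, hNd⟩ := Finset.mem_filter.mp hd'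
        have hlt : N < d := lt_of_le_of_ne (Nat.le_of_dvd (Nat.pos_of_mem_divisors hd) hNd) (Ne.symm hne)
        refine hzero d hd (by omega) fun e he hde => ?_
        rcases ha01 e he (lt_of_lt_of_le (by omega) (Nat.le_of_dvd (Nat.pos_of_mem_divisors he) hde)) with h' | h'
        · exact h'
        · exfalso
          have h1 := Nat.le_of_dvd (by omega) (above e he (lt_of_lt_of_le (by omega) (Nat.le_of_dvd (Nat.pos_of_mem_divisors he) hde)) h').1
          have h2 := Nat.le_of_dvd (Nat.pos_of_mem_divisors he) hde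
          omega
      have h := hab M hM hM1
      rw [← Finset.add_sum_erase _ _ (Finset.mem_filter.mpr ⟨hM, dvd_rfl⟩),
        Finset.sum_eq_single_of_mem N (Finset.mem_erase.mpr ⟨Ne.symm hMNe, Finset.mem_filter.mpr ⟨hNr, hMN⟩⟩), hbN] at h
      · have hnd : (N : ℤ) ∣ (M : ℤ) * b M := by
          rw [← hb M hM hM1]
          exact Int.natAbs_dvd.mpr (hnB M hM (hMlt.trans hNlt))
        have hb0 : b M = 0 := by
          by_contra hne
          have hone : (b M).natAbs = 1 := by rcases ha01 M hM hM1 with e | e <;> omega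
          have h' := Int.natAbs_dvd_natAbs.mpr hnd
          rw [Int.natAbs_mul, hone, mul_one, Int.natAbs_natCast, Int.natAbs_natCast] at h'
          have := Nat.le_of_dvd (by omega) h'
          omega
        exact ⟨by omega, fun _ => hb0⟩
      · intro d hd hdN
        obtain ⟨hne, hd'⟩ := Finset.mem_erase.mp hd
        obtain ⟨hd, hMd⟩ := Finset.mem_filter.mp hd'
        have hlt : M < d := lt_of_le_of_ne (Nat.le_of_dvd (Nat.pos_of_mem_divisors hd) hMd) (Ne.symm hne)
        by_cases hdN' : d ∣ N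
        · have hle := Nat.le_of_dvd (by omega) hdN'
          exact (ih (N - d) (by omega) d le_rfl hd (by omega) hdN').2 hdN
        · refine hzero d hd (by omega) fun e he hde => ?_
          rcases ha01 e he (lt_of_lt_of_le (by omega) (Nat.le_of_dvd (Nat.pos_of_mem_divisors he) hde)) with h' | h'
          · exact h'
          · exact absurd (hde.trans (above e he (lt_of_lt_of_le (by omega) (Nat.le_of_dvd (Nat.pos_of_mem_divisors he) hde)) h').1) hdN'
  exact fun h => (key _ d le_rfl hd hd1 h).1

end Cfsg.Agent.PrimeDegreePairs
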