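import Mathlib.LinearAlgebra.Matrix.ProjectiveSpecialLinearGroup
import Mathlib.GroupTheory.Perm.Cycle.Type
import Mathlib.GroupTheory.GroupAction.Hom
import Mathlib.GroupTheory.GroupAction.Quotient
import Mathlib.Algebra.Field.ZMod
import Mathlib.Dynamics.PeriodicPts.Defs
import Mathlib.Tactic.LinearCombination
import Mathlib.Tactic.FieldSimp
import Mathlib.FieldTheory.Finite.Basic

/-!
# Coordinates for a transitive action of `PSL(2, p)` of degree `p + 1`
-/

set_option autoImplicit false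

namespace Cfsg.Agent.PrimeDegreePairs

open Matrix

variable {p : ℕ} [hp : Fact p.Prime] {K Ω : Type*} [Group K] [MulAction K Ω] [Fintype Ω]
  [FaithfulSMul K Ω]

theorem moebius_frame (hp5 : 5 ≤ p) (hΩ : Fintype.card Ω = p + 1)
    (htr : MulAction.IsPretransitive K Ω)
    (φ : SpecialLinearGroup (Fin 2) (ZMod p) →* K) (hφ : Function.Surjective φ)
    (hker : ∀ x, φ x = 1 ↔ ((x : Matrix (Fin 2) (Fin 2) (ZMod p)) = 1 ∨
      (x : Matrix (Fin 2) (Fin 2) (ZMod p)) = -1)) :
    ∃ (o : Ω) (e : ZMod p → Ω), Function.Injective e ∧ (∀ v, v ≠ o ↔ ∃ i, e i = v) ∧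
      (∀ t, ∃ g : K, g • o = o ∧ ∀ i, g • e i = e (i + t)) ∧
      (∀ s, s ≠ 0 → IsSquare s → ∃ g : K, g • o = o ∧ ∀ i, g • e i = e (s * i)) ∧
      (p % 4 = 3 → ∃ w : K, w • o = e 0 ∧ w • e 0 = o ∧ ∀ i, i ≠ 0 → w • e i = e (-i⁻¹)) := by
  classical
  let U : ZMod p → SpecialLinearGroup (Fin 2) (ZMod p) := fun t =>
    ⟨!![1, t; 0, 1], by simp [Matrix.det_fin_two]⟩
  let D : (ZMod p)ˣ → SpecialLinearGroup (Fin 2) (ZMod p) := fun a =>
    ⟨!![(a : ZMod p), 0; 0, (a⁻¹ : (ZMod p)ˣ)], by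
      rw [Matrix.det_fin_two_of, mul_zero, sub_zero, ← Units.val_mul, mul_inv_cancel, Units.val_one]⟩
  let W : SpecialLinearGroup (Fin 2) (ZMod p) := ⟨!![0, -1; 1, 0], by simp [Matrix.det_fin_two]⟩
  have hUadd : ∀ s t, U s * U t = U (s + t) := fun s t => by
    refine Subtype.ext ?_
    show !![1, s; 0, 1] * !![1, t; 0, 1] = !![1, s + t; 0, 1]
    rw [Matrix.mul_fin_two]
    simp only [mul_one, one_mul, mul_zero, zero_mul, add_zero, zero_add, add_comm t s]
  have hU0 : U 0 = 1 := by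
    refine Subtype.ext ?_
    show !![1, (0 : ZMod p); 0, 1] = 1
    rw [Matrix.one_fin_two]
  have hUpow : ∀ n : ℕ, U 1 ^ n = U n := by
    intro n
    induction n with
    | zero => rw [pow_zero, Nat.cast_zero, hU0]
    | succ n ih => rw [pow_succ, ih, hUadd]; push_cast; rfl
  have hDU : ∀ a t, D a * U t = U ((a : ZMod p) ^ 2 * t) * D a := fun a t => by
    refine Subtype.ext ?_
    show !![(a : ZMod p), 0; 0, ((a⁻¹ : (ZMod p)ˣ) : ZMod p)] * !![1, t; 0, 1] =
      !![1, (a : ZMod p) ^ 2 * t; 0, 1] * !![(a : ZMod p), 0; 0, ((a⁻¹ : (ZMod p)ˣ) : ZMod p)]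
    rw [Matrix.mul_fin_two, Matrix.mul_fin_two]
    simp only [mul_one, one_mul, mul_zero, zero_mul, add_zero, zero_add]
    rw [show (a : ZMod p) ^ 2 * t * ((a⁻¹ : (ZMod p)ˣ) : ZMod p) = (a : ZMod p) * t by
      rw [show (a : ZMod p) ^ 2 * t * ((a⁻¹ : (ZMod p)ˣ) : ZMod p) = (a : ZMod p) * t * ((a : ZMod p) * ((a⁻¹ : (ZMod p)ˣ) : ZMod p)) by ring,
        ← Units.val_mul, mul_inv_cancel, Units.val_one, mul_one]]
  have hDD : ∀ a b, D a * D b = D b * D a := fun a b => by
    refine Subtype.ext ?_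
    show !![(a : ZMod p), 0; 0, ((a⁻¹ : (ZMod p)ˣ) : ZMod p)] * !![(b : ZMod p), 0; 0, ((b⁻¹ : (ZMod p)ˣ) : ZMod p)] =
      !![(b : ZMod p), 0; 0, ((b⁻¹ : (ZMod p)ˣ) : ZMod p)] * !![(a : ZMod p), 0; 0, ((a⁻¹ : (ZMod p)ˣ) : ZMod p)]
    rw [Matrix.mul_fin_two, Matrix.mul_fin_two]
    simp only [mul_zero, zero_mul, add_zero, zero_add]
    rw [mul_comm (a : ZMod p), mul_comm ((a⁻¹ : (ZMod p)ˣ) : ZMod p)]
  have hDinv : ∀ a, D a⁻¹ * D a = 1 := fun a => by
    refine Subtype.ext ?_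
    show !![((a⁻¹ : (ZMod p)ˣ) : ZMod p), 0; 0, (((a⁻¹)⁻¹ : (ZMod p)ˣ) : ZMod p)] * !![(a : ZMod p), 0; 0, ((a⁻¹ : (ZMod p)ˣ) : ZMod p)] = 1
    rw [Matrix.mul_fin_two, Matrix.one_fin_two, inv_inv]
    simp only [mul_zero, zero_mul, add_zero, zero_add, ← Units.val_mul, inv_mul_cancel, mul_inv_cancel, Units.val_one]
  have hWD : ∀ a, W * D a = D a⁻¹ * W := fun a => by
    refine Subtype.ext ?_
    show !![(0 : ZMod p), -1; 1, 0] * !![(a : ZMod p), 0; 0, ((a⁻¹ : (ZMod p)ˣ) : ZMod p)] =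
      !![((a⁻¹ : (ZMod p)ˣ) : ZMod p), 0; 0, (((a⁻¹)⁻¹ : (ZMod p)ˣ) : ZMod p)] * !![(0 : ZMod p), -1; 1, 0]
    rw [Matrix.mul_fin_two, Matrix.mul_fin_two, inv_inv]
    simp only [mul_zero, zero_mul, add_zero, zero_add, mul_one, one_mul, neg_mul, mul_neg, neg_zero]
  have hWU : W * U 1 * W = U (-1) * W * U (-1) := by
    refine Subtype.ext ?_
    show !![(0 : ZMod p), -1; 1, 0] * !![1, 1; 0, 1] * !![0, -1; 1, 0] =
      !![1, -1; 0, 1] * !![0, -1; 1, 0] * !![1, -1; 0, 1]
    simp [Matrix.mul_fin_two]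
  have hWW : φ W * φ W = 1 := by
    rw [← map_mul, hker]
    right
    show !![(0 : ZMod p), -1; 1, 0] * !![0, -1; 1, 0] = -1
    rw [Matrix.mul_fin_two, Matrix.one_fin_two]
    simp
  let u : K := φ (U 1)
  have hu1 : u ≠ 1 := by
    intro h
    rcases (hker _).mp h with h' | h'
    · have := congrFun (congrFun h' 0) 1; simp [U] at this
    · have := congrFun (congrFun h' 0) 1; simp [U] at this
  have hup : u ^ p = 1 := by rw [← map_pow, hUpow, ZMod.natCast_self, hU0, map_one]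
  have hφU : ∀ t : ZMod p, φ (U t) = u ^ t.val := fun t => by
    rw [← map_pow, hUpow, ZMod.natCast_zmod_val]
  -- a unique fixed point
  obtain ⟨o, ho⟩ : ∃ o : Ω, u • o = o := by
    have h := Equiv.Perm.exists_fixed_point_of_prime (p := p) (n := 1) (α := Ω) (by
        rw [hΩ]; intro h
        have := (Nat.dvd_add_right dvd_rfl).mp h
        exact hp.out.one_lt.ne' (Nat.dvd_one.mp this))
      (σ := MulAction.toPermHom K Ω u) (by rw [pow_one, ← map_pow, hup, map_one])
    exact h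
  have horb : ∀ b : Ω, u • b ≠ b → Function.Injective fun t : ZMod p => u ^ t.val • b := by
    intro b hb s t hst
    set m := Function.minimalPeriod (fun x => u • x) b with hm
    have hdiv : m ∣ p := (MulAction.pow_smul_eq_iff_minimalPeriod_dvd (a := u) (b := b) (n := p)).mp (by rw [hup, one_smul])
    rcases hp.out.eq_one_or_self_of_dvd m hdiv with h | h
    · exact absurd (by simpa using (MulAction.pow_smul_eq_iff_minimalPeriod_dvd (a := u) (b := b) (n := 1)).mpr (h ▸ dvd_rfl)) hb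
    · refine ZMod.val_injective p (Function.iterate_injOn_Iio_minimalPeriod (f := fun x => u • x) (x := b) ?_ ?_ ?_)
      · rw [Set.mem_Iio, ← hm, h]; exact ZMod.val_lt s
      · rw [Set.mem_Iio, ← hm, h]; exact ZMod.val_lt t
      · simpa [smul_iterate] using hst
  have honly : ∀ b : Ω, u • b = b → b = o := by
    intro b hb
    by_contra hbo
    apply hu1
    refine eq_of_smul_eq_smul fun v : Ω => ?_
    rw [one_smul]
    by_contra hv
    have hsub : Finset.univ.image (fun t : ZMod p => u ^ t.val • v) ⊆ Finset.univ \ {o, b} := by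
      intro x hx
      obtain ⟨t, -, rfl⟩ := Finset.mem_image.mp hx
      simp only [Finset.mem_sdiff, Finset.mem_univ, true_and, Finset.mem_insert, Finset.mem_singleton, not_or]
      have fixp : ∀ c : Ω, u • c = c → u ^ t.val • c = c := fun c hc =>
        MulAction.mem_stabilizer_iff.mp (pow_mem (MulAction.mem_stabilizer_iff.mpr hc) _)
      exact ⟨fun e => hv (by rw [MulAction.injective _ (e.trans (fixp o ho).symm)]; exact ho),
        fun e => hv (by rw [MulAction.injective _ (e.trans (fixp b hb).symm)]; exact hb)⟩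
    have := Finset.card_le_card hsub
    rw [Finset.card_image_of_injective _ (horb v hv), Finset.card_sdiff_of_subset (Finset.subset_univ _),
      Finset.card_univ, Finset.card_univ, ZMod.card, hΩ, Finset.card_pair (Ne.symm hbo)] at this
    omega
  have hDo : ∀ a : (ZMod p)ˣ, φ (D a) • o = o := by
    intro a
    apply honly
    show φ (U 1) • φ (D a) • o = φ (D a) • o
    rw [← mul_smul, ← map_mul]
    conv_lhs => rw [show (1 : ZMod p) = (a : ZMod p) ^ 2 * ((a⁻¹ : (ZMod p)ˣ) : ZMod p) ^ 2 by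
      rw [← mul_pow, ← Units.val_mul, mul_inv_cancel, Units.val_one, one_pow]]
    rw [← hDU, map_mul, mul_smul, hφU, MulAction.mem_stabilizer_iff.mp
      (pow_mem (MulAction.mem_stabilizer_iff.mpr ho) _)]
  obtain ⟨b, hb⟩ : ∃ b : Ω, u • b ≠ b := by
    by_contra h
    push Not at h
    exact hu1 (eq_of_smul_eq_smul fun v : Ω => by rw [h v, one_smul])
  have hcover : ∀ b : Ω, u • b ≠ b → ∀ v, v ≠ o → ∃ t : ZMod p, φ (U t) • b = v := by
    intro b hb v hv
    have himg : Finset.univ.image (fun t : ZMod p => u ^ t.val • b) = Finset.univ.erase o := by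
      refine Finset.eq_of_subset_of_card_le ?_ ?_
      · intro x hx
        obtain ⟨t, -, rfl⟩ := Finset.mem_image.mp hx
        refine Finset.mem_erase.mpr ⟨fun e => hb ?_, Finset.mem_univ _⟩
        rw [MulAction.injective (u ^ t.val) (e.trans (MulAction.mem_stabilizer_iff.mp
          (pow_mem (MulAction.mem_stabilizer_iff.mpr ho) _)).symm)]
        exact ho
      · rw [Finset.card_image_of_injective _ (horb b hb), Finset.card_erase_of_mem (Finset.mem_univ _),
          Finset.card_univ, Finset.card_univ, ZMod.card, hΩ]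
        omega
    obtain ⟨t, -, ht⟩ := Finset.mem_image.mp (himg.symm ▸ Finset.mem_erase.mpr ⟨hv, Finset.mem_univ v⟩)
    exact ⟨t, by rw [hφU]; exact ht⟩
  let a₀ : (ZMod p)ˣ := Units.mk0 2 (by
    intro h
    have h' : ((2 : ℕ) : ZMod p) = 0 := by exact_mod_cast h
    rw [ZMod.natCast_eq_zero_iff] at h'
    have := Nat.le_of_dvd (by norm_num) h'; omega)
  have ha₀ : (1 : ZMod p) - (a₀ : ZMod p) ^ 2 ≠ 0 := by
    intro h
    have h' : ((3 : ℕ) : ZMod p) = 0 := by
      push_cast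
      simp only [a₀, Units.val_mk0] at h
      linear_combination -h
    rw [ZMod.natCast_eq_zero_iff] at h'
    have := Nat.le_of_dvd (by norm_num) h'; omega
  obtain ⟨c, hc⟩ := hcover b hb (φ (D a₀) • b) (fun e => hb (by
    rw [MulAction.injective _ (e.trans (hDo a₀).symm)]; exact ho))
  set b₀ := φ (U (c / (1 - (a₀ : ZMod p) ^ 2))) • b with hb₀
  have hDb₀ : φ (D a₀) • b₀ = b₀ := by
    rw [hb₀, ← mul_smul, ← map_mul, hDU, map_mul, mul_smul, ← hc, ← mul_smul, ← map_mul, hUadd]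
    congr 3
    field_simp
    ring
  have hb₀m : u • b₀ ≠ b₀ := by
    intro h
    have h' := honly _ h
    rw [hb₀, hφU] at h'
    have hbo := MulAction.injective _ (h'.trans (MulAction.mem_stabilizer_iff.mp
      (pow_mem (MulAction.mem_stabilizer_iff.mpr ho) _)).symm)
    exact hb (hbo ▸ ho)
  let e : ZMod p → Ω := fun t => φ (U t) • b₀
  have hUe : ∀ s i, φ (U s) • e i = e (i + s) := fun s i => by
    show φ (U s) • φ (U i) • b₀ = φ (U (i + s)) • b₀
    rw [← mul_smul, ← map_mul, hUadd, add_comm]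
  have hinj : Function.Injective e := fun s t h => horb b₀ hb₀m (by simpa [e, hφU] using h)
  have heo : ∀ i, e i ≠ o := fun i h => hb₀m (by
    have h' : φ (U i) • b₀ = o := h
    rw [hφU] at h'
    rw [MulAction.injective _ (h'.trans (MulAction.mem_stabilizer_iff.mp
      (pow_mem (MulAction.mem_stabilizer_iff.mpr ho) _)).symm)]
    exact ho)
  have he0 : e 0 = b₀ := by simp [e, hU0]
  have hrange : ∀ v, v ≠ o ↔ ∃ i, e i = v := fun v => ⟨hcover b₀ hb₀m v, fun ⟨i, hi⟩ => hi ▸ heo i⟩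
  -- the fixed points of `D a₀`
  have hfix : ∀ v : Ω, φ (D a₀) • v = v → v = o ∨ v = e 0 := by
    intro v hv
    by_cases hvo : v = o
    · exact Or.inl hvo
    obtain ⟨i, rfl⟩ := (hrange v).mp hvo
    right
    have h' : φ (D a₀) • e i = e ((a₀ : ZMod p) ^ 2 * i) := by
      show φ (D a₀) • φ (U i) • b₀ = _
      rw [← mul_smul, ← map_mul, hDU, map_mul, mul_smul, hDb₀]
    rw [h'] at hv
    have h0 : ((1 : ZMod p) - (a₀ : ZMod p) ^ 2) * i = 0 := by linear_combination -(hinj hv)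
    rw [(mul_eq_zero.mp h0).resolve_left ha₀]
  have hDe : ∀ a i, φ (D a) • e i = e ((a : ZMod p) ^ 2 * i) := by
    intro a i
    have h0 : φ (D a) • b₀ = b₀ := by
      have h' : φ (D a₀) • φ (D a) • b₀ = φ (D a) • b₀ := by
        rw [← mul_smul, ← map_mul, hDD, map_mul, mul_smul, hDb₀]
      rcases hfix _ h' with h'' | h''
      · exact absurd (MulAction.injective _ (h''.trans (hDo a).symm)) (he0 ▸ heo 0)
      · rw [h'', he0]
    show φ (D a) • φ (U i) • b₀ = _
    rw [← mul_smul, ← map_mul, hDU, map_mul, mul_smul, h0]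
  -- the inversion
  have hWo : φ W • o ≠ o := by
    intro hW
    have hall : ∀ g : SpecialLinearGroup (Fin 2) (ZMod p), φ g • o = o := by
      intro g
      have hU' : ∀ t, φ (U t) • o = o := fun t => by
        rw [hφU]; exact MulAction.mem_stabilizer_iff.mp (pow_mem (MulAction.mem_stabilizer_iff.mpr ho) _)
      have hdet := g.2
      rw [Matrix.det_fin_two] at hdet
      by_cases h10 : g.1 1 0 = 0
      · have h00 : g.1 0 0 ≠ 0 := fun h => by rw [h10, h] at hdet; simp at hdet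
        have : g = U (g.1 0 1 * g.1 0 0) * D (Units.mk0 _ h00) := by
          rw [h10, mul_zero, sub_zero] at hdet
          refine Subtype.ext ?_
          show g.1 = !![1, g.1 0 1 * g.1 0 0; 0, 1] * !![g.1 0 0, 0; 0, ((Units.mk0 (g.1 0 0) h00)⁻¹ : (ZMod p)ˣ)]
          rw [Matrix.mul_fin_two]
          conv_lhs => rw [Matrix.eta_fin_two g.1]
          simp only [Units.val_inv_eq_inv_val, Units.val_mk0, h10, mul_zero, zero_mul, add_zero, zero_add, one_mul]
          congr 1
          rw [mul_assoc, mul_inv_cancel₀ h00, mul_one, ← eq_inv_of_mul_eq_one_right hdet]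
        rw [this, map_mul, mul_smul, hDo, hU']
      · have : g = U (g.1 0 0 / g.1 1 0) * W * D (Units.mk0 _ h10) * U (g.1 1 1 / g.1 1 0) := by
          refine Subtype.ext ?_
          show g.1 = !![1, g.1 0 0 / g.1 1 0; 0, 1] * !![0, -1; 1, 0] *
            !![g.1 1 0, 0; 0, ((Units.mk0 (g.1 1 0) h10)⁻¹ : (ZMod p)ˣ)] * !![1, g.1 1 1 / g.1 1 0; 0, 1]
          rw [Matrix.mul_fin_two, Matrix.mul_fin_two, Matrix.mul_fin_two]
          conv_lhs => rw [Matrix.eta_fin_two g.1]
          simp only [Units.val_inv_eq_inv_val, Units.val_mk0, mul_zero, zero_mul, add_zero, zero_add, one_mul, mul_one]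
          have e2 : g.1 0 1 = g.1 0 0 / g.1 1 0 * g.1 1 0 * (g.1 1 1 / g.1 1 0) + -1 * (g.1 1 0)⁻¹ := by
            field_simp; linear_combination -hdet
          have e1 : g.1 0 0 = g.1 0 0 / g.1 1 0 * g.1 1 0 := (div_mul_cancel₀ _ h10).symm
          have e3 : g.1 1 1 = g.1 1 0 * (g.1 1 1 / g.1 1 0) := (mul_div_cancel₀ _ h10).symm
          rw [← e2, ← e1, ← e3]
        rw [this, map_mul, map_mul, map_mul, mul_smul, mul_smul, mul_smul, hU', hDo, hW, hU']
    obtain ⟨g, hg⟩ := htr.exists_smul_eq o (e 0)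
    obtain ⟨g', rfl⟩ := hφ g
    exact heo 0 (hg.symm.trans (hall g'))
  have hWfix : ∀ v : Ω, φ (D a₀) • v = v → φ W • v = o ∨ φ W • v = e 0 := by
    intro v hv
    apply hfix
    have h' : φ (D a₀⁻¹) • φ W • v = φ W • v := by
      rw [← mul_smul, ← map_mul, ← hWD, map_mul, mul_smul, hv]
    conv_lhs => rw [← h']
    rw [← mul_smul, ← map_mul, hDD, hDinv, map_one, one_smul]
  have hW1 : φ W • o = e 0 := (hWfix o (hDo a₀)).resolve_left hWo
  have hW0 : φ W • e 0 = o := by
    rcases hWfix (e 0) (by rw [hDe, mul_zero]) with h | h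
    · exact h
    · exact absurd (MulAction.injective _ (h.trans hW1.symm)) (heo 0)
  refine ⟨o, e, hinj, hrange, fun t => ⟨φ (U t), ?_, hUe t⟩, ?_, fun hp3 => ⟨φ W, hW1, hW0, ?_⟩⟩
  · rw [hφU]; exact MulAction.mem_stabilizer_iff.mp (pow_mem (MulAction.mem_stabilizer_iff.mpr ho) _)
  · rintro s hs ⟨a, rfl⟩
    refine ⟨φ (D (Units.mk0 a fun h => hs (by simp [h]))), hDo _, fun i => ?_⟩
    rw [hDe, pow_two]; rfl
  intro i hi
  have he1 : φ W • e 1 = e (-1) := by
    have h := congrArg (fun g => φ g • o) hWU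
    simp only [map_mul, mul_smul] at h
    rw [hW1, hUe, zero_add, hφU (-1), MulAction.mem_stabilizer_iff.mp
      (pow_mem (MulAction.mem_stabilizer_iff.mpr ho) _), hW1, ← hφU, hUe, zero_add] at h
    exact h
  have hsq : ∀ a : (ZMod p)ˣ, φ W • e ((a : ZMod p) ^ 2) = e (-((a : ZMod p) ^ 2)⁻¹) := by
    intro a
    rw [show ((a : ZMod p) ^ 2) = (a : ZMod p) ^ 2 * 1 by ring, ← hDe, ← mul_smul, ← map_mul, hWD,
      map_mul, mul_smul, he1, hDe]
    congr 1
    rw [Units.val_inv_eq_inv_val, inv_pow, mul_neg, mul_one, mul_one]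
  by_cases hs : IsSquare i
  · obtain ⟨a, rfl⟩ := hs
    have := hsq (Units.mk0 a fun h => hi (by simp [h]))
    simpa [pow_two] using this
  · have hsn : IsSquare (-i⁻¹) := by
      have hp2 : ringChar (ZMod p) ≠ 2 := by rw [ZMod.ringChar_zmod_n]; omega
      rw [FiniteField.isSquare_iff hp2 (neg_ne_zero.mpr (inv_ne_zero hi)), ZMod.card]
      rw [FiniteField.isSquare_iff hp2 hi, ZMod.card] at hs
      have h' := (FiniteField.pow_dichotomy hp2 hi)
      rw [ZMod.card] at h'
      have ho' : Odd (p / 2) := by rw [Nat.odd_iff]; omega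
      rw [ho'.neg_pow, inv_pow, h'.resolve_left hs, inv_neg, inv_one, neg_neg]
    obtain ⟨a, ha⟩ := hsn
    have ha0 : a ≠ 0 := fun h => hi (by simpa [h] using ha)
    have h := hsq (Units.mk0 a ha0)
    simp only [Units.val_mk0, pow_two, ← ha] at h
    rw [inv_neg, inv_inv, neg_neg] at h
    rw [← h, ← mul_smul, hWW, one_smul]

end Cfsg.Agent.PrimeDegreePairs
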