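import Cfsg.Agent.Lib.Recog.PrimeDegreePairs.Bound
import Cfsg.Agent.Lib.Recog.SquarePlusOne.Dichotomy
import Cfsg.Agent.S0676
import Mathlib.GroupTheory.GroupAction.Primitive
import Mathlib.Combinatorics.Enumerative.DoubleCounting

/-!
# Transitive groups of degree `q + 2`, `q` prime

Rank three groups with coprime subdegrees are imprimitive, and a triply transitive group of even
permutations of degree `q + 2` whose two point stabiliser is insoluble is five-fold transitive.
-/

set_option autoImplicit false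
set_option linter.unusedSectionVars false
set_option linter.style.haveILetI false

namespace Cfsg.Agent.PrimeDegreePairs

open MulAction

variable {G Ω : Type*} [Group G] [Finite G] [MulAction G Ω] [Fintype Ω]

/-- A primitive group on `Ω ∖ {a}` whose point stabiliser has at most two orbits of coprime
lengths on the remaining points is doubly transitive there. -/
theorem one_orbit_of_coprime {a b : Ω} (hab : a ≠ b)
    (h2 : ∀ u, u ≠ a → ∃ g : G, g • a = a ∧ g • b = u)
    (hblock : ∀ B : Set Ω, a ∉ B → 2 ≤ B.ncard →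
      (∀ g : G, g • a = a → ∀ y ∈ B, g • y ∈ B → ∀ z ∈ B, g • z ∈ B) → ∀ u, u ≠ a → u ∈ B)
    (bound : ∀ y : Fin 3 → Ω, (∀ i, y i ≠ a ∧ y i ≠ b) →
      ∃ i j, i ≠ j ∧ ∃ g : G, g • a = a ∧ g • b = b ∧ g • y i = y j)
    (hq : (Fintype.card Ω - 2).Prime) (hq2 : Fintype.card Ω - 2 ≠ 2) :
    ∀ c d, c ≠ a → c ≠ b → d ≠ a → d ≠ b → ∃ g : G, g • a = a ∧ g • b = b ∧ g • c = d := by
  classical
  intro c₁ d₁ hc₁a hc₁b hd₁a hd₁b
  by_contra hcon
  set n := Fintype.card Ω with hn
  let orbit' : Ω → Finset Ω := fun c => Finset.univ.filter fun v => ∃ g : G, g • a = a ∧ g • b = b ∧ g • c = v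
  have orb_rest : ∀ c, c ≠ a → c ≠ b → ∀ v ∈ orbit' c, v ≠ a ∧ v ≠ b := by
    intro c hca hcb v hv
    obtain ⟨g, g1, g2, g3⟩ := (Finset.mem_filter.mp hv).2
    exact ⟨fun e => hca (MulAction.injective g (g3.trans (e.trans g1.symm))),
      fun e => hcb (MulAction.injective g (g3.trans (e.trans g2.symm)))⟩
  have orb_eq : ∀ {c v}, v ∈ orbit' c → orbit' v = orbit' c := by
    intro c v hv
    obtain ⟨g, g1, g2, g3⟩ := (Finset.mem_filter.mp hv).2
    ext w
    simp only [orbit', Finset.mem_filter, Finset.mem_univ, true_and]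
    constructor
    · rintro ⟨k, k1, k2, k3⟩
      exact ⟨k * g, by rw [mul_smul, g1, k1], by rw [mul_smul, g2, k2], by rw [mul_smul, g3, k3]⟩
    · rintro ⟨k, k1, k2, k3⟩
      exact ⟨k * g⁻¹, by rw [mul_smul, inv_smul_eq_iff.mpr g1.symm, k1],
        by rw [mul_smul, inv_smul_eq_iff.mpr g2.symm, k2],
        by rw [mul_smul, inv_smul_eq_iff.mpr g3.symm, k3]⟩
  have self_orb : ∀ c, c ∈ orbit' c := fun c =>
    Finset.mem_filter.mpr ⟨Finset.mem_univ _, 1, one_smul _ _, one_smul _ _, one_smul _ _⟩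
  have hne12 : orbit' c₁ ≠ orbit' d₁ := fun e => hcon ((Finset.mem_filter.mp (e ▸ self_orb d₁ : d₁ ∈ orbit' c₁)).2)
  have hdisj : Disjoint (orbit' c₁) (orbit' d₁) := Finset.disjoint_left.mpr fun v h1 h2 =>
    hne12 ((orb_eq h1).symm.trans (orb_eq h2))
  have hunion : orbit' c₁ ∪ orbit' d₁ = Finset.univ \ {a, b} := by
    ext v
    simp only [Finset.mem_union, Finset.mem_sdiff, Finset.mem_univ, true_and, Finset.mem_insert,
      Finset.mem_singleton, not_or]
    constructor
    · rintro (h | h)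
      · exact orb_rest c₁ hc₁a hc₁b v h
      · exact orb_rest d₁ hd₁a hd₁b v h
    · rintro ⟨hva, hvb⟩
      by_contra hv
      rw [not_or] at hv
      obtain ⟨i, j, hij, g, g1, g2, g3⟩ := bound ![c₁, d₁, v] (by intro i; fin_cases i <;> simp [*])
      have m : ∀ {u w}, g • u = w → orbit' w = orbit' u := fun e =>
        orb_eq (Finset.mem_filter.mpr ⟨Finset.mem_univ _, g, g1, g2, e⟩)
      fin_cases i <;> fin_cases j
      · exact hij rfl
      · exact hne12 (m g3).symm
      · exact hv.1 ((m g3) ▸ self_orb v)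
      · exact hne12 (m g3)
      · exact hij rfl
      · exact hv.2 ((m g3) ▸ self_orb v)
      · exact hv.1 ((m g3).symm ▸ self_orb v)
      · exact hv.2 ((m g3).symm ▸ self_orb v)
      · exact hij rfl
  have hsum : (orbit' c₁).card + (orbit' d₁).card = n - 2 := by
    rw [← Finset.card_union_of_disjoint hdisj, hunion,
      Finset.card_sdiff_of_subset (Finset.subset_univ _), Finset.card_univ, Finset.card_pair hab]
  -- name the shorter orbit `C` and the longer one `D`
  obtain ⟨c, d, hca, hcb, hsum, hle, hun⟩ : ∃ c d, c ≠ a ∧ c ≠ b ∧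
      (orbit' c).card + (orbit' d).card = n - 2 ∧ (orbit' c).card ≤ (orbit' d).card ∧
      (Disjoint (orbit' c) (orbit' d) ∧ orbit' c ∪ orbit' d = Finset.univ \ {a, b}) := by
    rcases le_total (orbit' c₁).card (orbit' d₁).card with h | h
    · exact ⟨c₁, d₁, hc₁a, hc₁b, hsum, h, hdisj, hunion⟩
    · exact ⟨d₁, c₁, hd₁a, hd₁b, by omega, h, hdisj.symm, by rw [Finset.union_comm, hunion]⟩
  clear hne12 hdisj hunion hcon
  obtain ⟨hdisj, hunion⟩ := hun
  set C := orbit' c with hC
  set D := orbit' d with hD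
  have hk : 0 < C.card := Finset.card_pos.mpr ⟨c, self_orb c⟩
  have hl : 0 < D.card := Finset.card_pos.mpr ⟨d, self_orb d⟩
  have hcop : Nat.Coprime C.card D.card := by
    have h : Nat.Coprime C.card (n - 2) :=
      ((Nat.Prime.coprime_iff_not_dvd hq).mpr fun hd => by have := Nat.le_of_dvd hk hd; omega).symm
    rwa [← hsum, Nat.coprime_self_add_right] at h
  -- the suborbit graph
  choose mv hmv1 hmv2 using h2
  let N : Ω → Finset Ω := fun u => if h : u ≠ a then C.image (fun v => mv u h • v) else ∅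
  have hN : ∀ {g : G} {u}, g • a = a → g • b = u → N u = C.image fun v => g • v := by
    intro g u g1 g2
    have hu : u ≠ a := fun e => hab (MulAction.injective g (g1.trans (e.symm.trans g2.symm)))
    simp only [N, dif_pos hu]
    have hmem : ∀ v ∈ C, ((mv u hu)⁻¹ * g) • v ∈ C := by
      intro v hv
      rw [hC, ← orb_eq (hC ▸ hv)]
      refine Finset.mem_filter.mpr ⟨Finset.mem_univ _, _, ?_, ?_, rfl⟩
      · rw [mul_smul, g1, inv_smul_eq_iff, hmv1]
      · rw [mul_smul, g2, inv_smul_eq_iff, hmv2]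
    symm
    refine Finset.eq_of_subset_of_card_le ?_ ?_
    · intro w hw
      obtain ⟨v, hv, rfl⟩ := Finset.mem_image.mp hw
      exact Finset.mem_image.mpr ⟨_, hmem v hv, by rw [mul_smul, smul_inv_smul]⟩
    · rw [Finset.card_image_of_injective _ (MulAction.injective _),
        Finset.card_image_of_injective _ (MulAction.injective _)]
  have hNcard : ∀ u, u ≠ a → (N u).card = C.card := fun u hu => by
    simp only [N, dif_pos hu, Finset.card_image_of_injective _ (MulAction.injective _)]
  have hNb : N b = C := by rw [hN (one_smul G a) (one_smul G b)]; simp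
  have hNsub : ∀ {u v}, v ∈ N u → u ≠ a ∧ v ≠ a ∧ u ≠ v := by
    intro u v hv
    by_cases hu : u ≠ a
    · simp only [N, dif_pos hu, Finset.mem_image] at hv
      obtain ⟨w, hw, rfl⟩ := hv
      obtain ⟨hwa, hwb⟩ := orb_rest c hca hcb w hw
      exact ⟨hu, fun e => hwa (MulAction.injective _ (e.trans (hmv1 u hu).symm)),
        fun e => hwb (MulAction.injective _ (e.symm.trans (hmv2 u hu).symm))⟩
    · simp only [N, dif_neg hu, Finset.notMem_empty] at hv
  have hNg : ∀ {g : G} {u v}, g • a = a → v ∈ N u → g • v ∈ N (g • u) := by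
    intro g u v g1 hv
    obtain ⟨hu, -, -⟩ := hNsub hv
    simp only [N, dif_pos hu, Finset.mem_image] at hv
    obtain ⟨w, hw, rfl⟩ := hv
    rw [hN (g := g * mv u hu) (by rw [mul_smul, hmv1, g1]) (by rw [mul_smul, hmv2])]
    exact Finset.mem_image.mpr ⟨w, hw, mul_smul _ _ _⟩
  have hNg' : ∀ {g : G} {u v}, g • a = a → (g • v ∈ N (g • u) ↔ v ∈ N u) := fun {g u v} g1 =>
    ⟨fun h => by simpa using hNg (g := g⁻¹) (inv_smul_eq_iff.mpr g1.symm) h, hNg g1⟩
  -- the graph is symmetric
  have hsym : ∀ {u v}, v ∈ N u → u ∈ N v := by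
    intro u v hv
    obtain ⟨hu, hva, huv⟩ := hNsub hv
    by_contra hno
    -- every arc leads backwards into the other orbital
    have key : ∀ {x y}, y ∈ N x → x ∉ N y := by
      intro x y hy hx
      obtain ⟨hxa, -, -⟩ := hNsub hy
      have red : ∀ {s t}, t ∈ N s → ∃ w ∈ C, s ∈ N t ↔ b ∈ N w := by
        intro s t ht
        obtain ⟨hs, -, -⟩ := hNsub ht
        simp only [N, dif_pos hs, Finset.mem_image] at ht
        obtain ⟨w, hw, rfl⟩ := ht
        refine ⟨w, hw, ?_⟩
        have h := hNg' (u := w) (v := b) (hmv1 s hs)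
        rwa [hmv2] at h
      obtain ⟨w, hw, e⟩ := red hv
      obtain ⟨w', hw', e'⟩ := red hy
      apply hno
      rw [e]
      obtain ⟨g, g1, g2, g3⟩ := (Finset.mem_filter.mp ((orb_eq hw').symm ▸ hw : w ∈ orbit' w')).2
      have := (hNg' g1).mpr (e'.mp hx)
      rwa [g2, g3] at this
    -- the in-neighbours of `b` form a second orbit of the same length
    let X : Finset Ω := Finset.univ.filter fun x => x ≠ a
    let I : Finset Ω := Finset.univ.filter fun x => b ∈ N x
    have hI : ∀ y ∈ X, (X.filter fun x => y ∈ N x).card = I.card := by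
      intro y hy
      have hya : y ≠ a := (Finset.mem_filter.mp hy).2
      have : (X.filter fun x => y ∈ N x) = I.image fun x => mv y hya • x := by
        ext x
        simp only [X, I, Finset.mem_filter, Finset.mem_univ, true_and, Finset.mem_image]
        constructor
        · rintro ⟨-, hx⟩
          refine ⟨(mv y hya)⁻¹ • x, ?_, smul_inv_smul _ _⟩
          rw [← hNg' (hmv1 y hya), smul_inv_smul, hmv2]
          exact hx
        · rintro ⟨z, hz, rfl⟩
          have h := hNg (hmv1 y hya) hz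
          rw [hmv2] at h
          exact ⟨(hNsub h).1, h⟩
      rw [this, Finset.card_image_of_injective _ (MulAction.injective _)]
    have hcount := Finset.card_mul_eq_card_mul (s := X) (t := X) (fun x y => y ∈ N x)
      (m := C.card) (n := I.card) ?_ ?_
    · have hX : 0 < X.card := Finset.card_pos.mpr ⟨b, Finset.mem_filter.mpr ⟨Finset.mem_univ _, hab.symm⟩⟩
      have hIC : I.card = C.card := (Nat.eq_of_mul_eq_mul_left hX hcount).symm
      have hIsub : I ⊆ D := by
        intro x hx
        have hx' : b ∈ N x := (Finset.mem_filter.mp hx).2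
        obtain ⟨hxa, -, hxb⟩ := hNsub hx'
        have hxC : x ∉ C := fun h => key hx' (hNb.symm ▸ h)
        have : x ∈ C ∪ D := by rw [hunion]; simp [hxa, hxb]
        exact (Finset.mem_union.mp this).resolve_left hxC
      have hDI : D ⊆ I := by
        intro x hx
        obtain ⟨y, hy⟩ := Finset.card_pos.mp (hIC ▸ hk : 0 < I.card)
        obtain ⟨g, g1, g2, g3⟩ := (Finset.mem_filter.mp ((orb_eq (hIsub hy)).symm ▸ hx : x ∈ orbit' y)).2
        have := hNg g1 (Finset.mem_filter.mp hy).2
        rw [g2, g3] at this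
        exact Finset.mem_filter.mpr ⟨Finset.mem_univ _, this⟩
      have hCD : C.card = D.card := by rw [← hIC, Finset.Subset.antisymm hIsub hDI]
      have h1 : C.card = 1 := by
        rw [hCD] at hcop ⊢
        exact (Nat.coprime_self _).mp hcop
      omega
    · intro x hx
      rw [← hNcard x (Finset.mem_filter.mp hx).2]
      congr 1
      ext y
      simp only [Finset.bipartiteAbove, X, Finset.mem_filter, Finset.mem_univ, true_and]
      exact ⟨fun h => h.2, fun h => ⟨(hNsub h).2.1, h⟩⟩
    · exact hI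
  -- counting paths from the short to the long orbit
  have hm1 : ∀ x ∈ C, (Finset.bipartiteAbove (fun x y => y ∈ N x) D x).card =
      (Finset.bipartiteAbove (fun x y => y ∈ N x) D c).card := by
    intro x hx
    obtain ⟨g, g1, g2, g3⟩ := (Finset.mem_filter.mp hx).2
    refine (Finset.card_bij (fun y _ => g • y) ?_ (fun y _ z _ h => MulAction.injective g h) ?_).symm
    · intro y hy
      obtain ⟨hyD, hy⟩ := Finset.mem_filter.mp hy
      refine Finset.mem_filter.mpr ⟨?_, by simpa [g3] using hNg g1 hy⟩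
      rw [hD, ← orb_eq hyD]
      exact Finset.mem_filter.mpr ⟨Finset.mem_univ _, g, g1, g2, rfl⟩
    · intro y hy
      obtain ⟨hyD, hy⟩ := Finset.mem_filter.mp hy
      refine ⟨g⁻¹ • y, Finset.mem_filter.mpr ⟨?_, ?_⟩, smul_inv_smul g y⟩
      · rw [hD, ← orb_eq hyD]
        exact Finset.mem_filter.mpr ⟨Finset.mem_univ _, g⁻¹, inv_smul_eq_iff.mpr g1.symm,
          inv_smul_eq_iff.mpr g2.symm, rfl⟩
      · show g⁻¹ • y ∈ N c
        rw [← hNg' g1, smul_inv_smul, g3]; exact hy
  have hm2 : ∀ y ∈ D, (Finset.bipartiteBelow (fun x y => y ∈ N x) C y).card =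
      (Finset.bipartiteBelow (fun x y => y ∈ N x) C d).card := by
    intro y hy
    obtain ⟨g, g1, g2, g3⟩ := (Finset.mem_filter.mp hy).2
    refine (Finset.card_bij (fun x _ => g • x) ?_ (fun x _ z _ h => MulAction.injective g h) ?_).symm
    · intro x hx
      obtain ⟨hxC, hx⟩ := Finset.mem_filter.mp hx
      refine Finset.mem_filter.mpr ⟨?_, by simpa [g3] using hNg g1 hx⟩
      rw [hC, ← orb_eq hxC]
      exact Finset.mem_filter.mpr ⟨Finset.mem_univ _, g, g1, g2, rfl⟩
    · intro x hx
      obtain ⟨hxC, hx⟩ := Finset.mem_filter.mp hx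
      refine ⟨g⁻¹ • x, Finset.mem_filter.mpr ⟨?_, ?_⟩, smul_inv_smul g x⟩
      · rw [hC, ← orb_eq hxC]
        exact Finset.mem_filter.mpr ⟨Finset.mem_univ _, g⁻¹, inv_smul_eq_iff.mpr g1.symm,
          inv_smul_eq_iff.mpr g2.symm, rfl⟩
      · show d ∈ N (g⁻¹ • x)
        rw [← hNg' g1, smul_inv_smul, g3]; exact hx
  have hcount := Finset.card_mul_eq_card_mul (fun x y => y ∈ N x) hm1 hm2
  have hlt : (Finset.bipartiteAbove (fun x y => y ∈ N x) D c).card < C.card := by
    rw [← hNcard c hca]
    refine Finset.card_lt_card (Finset.ssubset_iff_subset_ne.mpr ⟨fun y hy => (Finset.mem_filter.mp hy).2, ?_⟩)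
    intro e
    have hb : b ∈ N c := hsym (hNb.symm ▸ self_orb c)
    rw [← e] at hb
    have : b ∈ C ∪ D := Finset.mem_union_right _ (Finset.mem_filter.mp hb).1
    rw [hunion] at this
    simp at this
  have hdvd : D.card ∣ (Finset.bipartiteAbove (fun x y => y ∈ N x) D c).card :=
    hcop.symm.dvd_of_dvd_mul_left ⟨_, hcount⟩
  have hzero := Nat.eq_zero_of_dvd_of_lt hdvd (by omega)
  -- the closed neighbourhood of `b` is a block
  set B : Finset Ω := insert b C with hB
  have hclosed : ∀ y ∈ B, insert y (N y) = B := by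
    intro y hy
    rcases Finset.mem_insert.mp hy with rfl | hyC
    · rw [hNb]
    · refine Finset.eq_of_subset_of_card_le ?_ ?_
      · intro z hz
        rcases Finset.mem_insert.mp hz with rfl | hz
        · exact hy
        · by_contra hzB
          obtain ⟨-, hza, -⟩ := hNsub hz
          simp only [hB, Finset.mem_insert, not_or] at hzB
          have : z ∈ C ∪ D := by rw [hunion]; simp [hza, hzB.1]
          have hzD := (Finset.mem_union.mp this).resolve_left hzB.2
          have h0 := hm1 y hyC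
          rw [hzero, Finset.card_eq_zero] at h0
          exact Finset.notMem_empty z (h0 ▸ Finset.mem_filter.mpr ⟨hzD, hz⟩)
      · rw [Finset.card_insert_of_notMem (fun h => (hNsub h).2.2 rfl),
          hNcard y (orb_rest c hca hcb y hyC).1]
        exact Finset.card_insert_le _ _
  have hBa : a ∉ B := by
    simp only [hB, Finset.mem_insert, not_or]
    exact ⟨hab, fun h => (orb_rest c hca hcb a h).1 rfl⟩
  have hd' : d ≠ a ∧ d ≠ b := by
    have : d ∈ C ∪ D := Finset.mem_union_right _ (self_orb d)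
    rw [hunion] at this; simpa using this
  have := hblock (B : Set Ω) (by simpa using hBa)
    (by
      rw [Set.ncard_coe_finset, hB,
        Finset.card_insert_of_notMem (fun h => (orb_rest c hca hcb b h).2 rfl)]
      exact Nat.succ_le_succ hk) ?_ d hd'.1
  · rcases Finset.mem_insert.mp (Finset.mem_coe.mp this) with h | h
    · exact hd'.2 h
    · exact Finset.disjoint_left.mp hdisj h (self_orb d)
  · intro g g1 y hy hgy z hz
    simp only [Finset.mem_coe] at hy hgy hz ⊢
    rw [← hclosed _ hgy]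
    rw [← hclosed _ hy] at hz
    rcases Finset.mem_insert.mp hz with rfl | hz
    · exact Finset.mem_insert_self _ _
    · exact Finset.mem_insert_of_mem (hNg g1 hz)

section five

variable [DecidableEq Ω] [FaithfulSMul G Ω] {p q : ℕ}

set_option maxHeartbeats 1000000 in
/-- A triply transitive group of even permutations of prime degree `q + 2` with small Sylow
normaliser is five-fold transitive. -/
theorem five_of_three (hp : p.Prime) (hq : q.Prime) (hq5 : 5 < q) (hpq : p = q + 2)
    (hΩ : Fintype.card Ω = p)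
    (heven : ∀ g : G, Equiv.Perm.sign (MulAction.toPerm g : Equiv.Perm Ω) = 1) (P : Sylow p G)
    (hN : 2 * Nat.card ↥(Subgroup.normalizer ((P : Subgroup G) : Set G)) = p * (p - 1))
    (h1 : IsPretransitive G Ω)
    (h2 : ∀ {u v u' v' : Ω}, u ≠ v → u' ≠ v' → ∃ g : G, g • u = u' ∧ g • v = v')
    (h3 : ∀ a b c d : Ω, a ≠ b → c ≠ a → c ≠ b → d ≠ a → d ≠ b →
      ∃ g : G, g • a = a ∧ g • b = b ∧ g • c = d)
    (a b : Ω) (hab : a ≠ b) (x y : Fin 3 ↪ Ω) (hx : ∀ i, x i ≠ a ∧ x i ≠ b)
    (hy : ∀ i, y i ≠ a ∧ y i ≠ b) :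
    ∃ g : G, g • a = a ∧ g • b = b ∧ ∀ i, g • x i = y i := by
  classical
  haveI := Fact.mk hp
  haveI := Fact.mk hq
  let X := {v : Ω // v ≠ a ∧ v ≠ b}
  have hX : Fintype.card X = q := by
    rw [Fintype.card_subtype, show (Finset.univ.filter fun v => v ≠ a ∧ v ≠ b) = Finset.univ \ {a, b} by
      ext v; simp, Finset.card_sdiff_of_subset (Finset.subset_univ _), Finset.card_univ,
      Finset.card_pair hab, hΩ]
    omega
  -- the stabilizer of the pair
  let K : Subgroup G :=
    { carrier := {g | (g • a = a ∧ g • b = b) ∨ (g • a = b ∧ g • b = a)}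
      one_mem' := Or.inl ⟨one_smul _ _, one_smul _ _⟩
      mul_mem' := by
        rintro g k (⟨g1, g2⟩ | ⟨g1, g2⟩) (⟨k1, k2⟩ | ⟨k1, k2⟩) <;>
          simp only [Set.mem_setOf_eq, mul_smul, k1, k2, g1, g2] <;> simp
      inv_mem' := by
        rintro g (⟨g1, g2⟩ | ⟨g1, g2⟩)
        · exact Or.inl ⟨inv_smul_eq_iff.mpr g1.symm, inv_smul_eq_iff.mpr g2.symm⟩
        · exact Or.inr ⟨inv_smul_eq_iff.mpr g2.symm, inv_smul_eq_iff.mpr g1.symm⟩ }
  have hKX : ∀ (g : K) (v : Ω), (v ≠ a ∧ v ≠ b) ↔ ((g : G) • v ≠ a ∧ (g : G) • v ≠ b) := by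
    rintro ⟨g, (⟨g1, g2⟩ | ⟨g1, g2⟩)⟩ v
    · have ea : g • v = a ↔ v = a := ⟨fun e => MulAction.injective g (e.trans g1.symm), fun e => e ▸ g1⟩
      have eb : g • v = b ↔ v = b := ⟨fun e => MulAction.injective g (e.trans g2.symm), fun e => e ▸ g2⟩
      simp [ea, eb]
    · have ea : g • v = b ↔ v = a := ⟨fun e => MulAction.injective g (e.trans g1.symm), fun e => e ▸ g1⟩
      have eb : g • v = a ↔ v = b := ⟨fun e => MulAction.injective g (e.trans g2.symm), fun e => e ▸ g2⟩
      simp [ea, eb, and_comm]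
  let ψ : K →* Equiv.Perm X :=
    { toFun := fun g => (MulAction.toPerm (g : G) : Equiv.Perm Ω).subtypePerm fun v => (hKX g v).symm
      map_one' := by ext v; simp [Equiv.Perm.subtypePerm_apply]
      map_mul' := fun g k => by
        ext v
        exact mul_smul (g : G) (k : G) (v : Ω) }
  have hψv : ∀ (g : K) (v : X), ((ψ g v : X) : Ω) = (g : G) • (v : Ω) := fun g v => rfl
  have hψ : Function.Injective ψ := by
    rw [← MonoidHom.ker_eq_bot_iff, Subgroup.eq_bot_iff_forall]
    rintro ⟨g, hg⟩ hker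
    have hfix : ∀ v, v ≠ a → v ≠ b → g • v = v := fun v hva hvb => by
      have := congrArg Subtype.val (Equiv.congr_fun (MonoidHom.mem_ker.mp hker) ⟨v, hva, hvb⟩)
      rw [hψv] at this
      simpa using this
    rcases hg with ⟨g1, g2⟩ | ⟨g1, g2⟩
    · apply Subtype.ext
      refine eq_of_smul_eq_smul fun v : Ω => ?_
      show g • v = (1 : G) • v
      rw [one_smul]
      by_cases hva : v = a
      · rw [hva, g1]
      by_cases hvb : v = b
      · rw [hvb, g2]
      exact hfix v hva hvb
    · exfalso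
      have hswap : (MulAction.toPerm g : Equiv.Perm Ω) = Equiv.swap a b := by
        ext v
        by_cases hva : v = a
        · simp [hva, g1]
        by_cases hvb : v = b
        · simp [hvb, g2]
        simp [hfix v hva hvb, Equiv.swap_apply_of_ne_of_ne hva hvb]
      have := heven g
      rw [hswap, Equiv.Perm.sign_swap hab] at this
      exact absurd this (by decide)
  -- the pointwise stabilizer inside it
  set T : Subgroup ψ.range :=
    (((MulAction.stabilizer G a ⊓ MulAction.stabilizer G b).subgroupOf K).map ψ.rangeRestrict) with hT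
  have memT : ∀ g : K, ψ.rangeRestrict g ∈ T ↔ ((g : G) • a = a ∧ (g : G) • b = b) := by
    intro g
    constructor
    · rintro ⟨g', hg', e⟩
      have e' : g' = g := hψ (congrArg Subtype.val e)
      subst e'
      exact hg'
    · intro h
      exact ⟨g, h, rfl⟩
  obtain ⟨t, t1, t2⟩ := h2 hab hab.symm
  let t' : K := ⟨t, Or.inr ⟨t1, t2⟩⟩
  have hindex : T.index = 2 := by
    refine Subgroup.index_eq_two_iff.mpr ⟨ψ.rangeRestrict t', fun r => ?_⟩
    obtain ⟨g, rfl⟩ := ψ.rangeRestrict_surjective r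
    rw [← map_mul, memT, memT]
    rcases g.2 with ⟨g1, g2⟩ | ⟨g1, g2⟩
    · refine Or.inr ⟨⟨g1, g2⟩, fun h => hab ?_⟩
      have := h.1
      rw [Subgroup.coe_mul, mul_smul, show (t' : G) = t from rfl, t1, g2] at this
      exact this.symm
    · refine Or.inl ⟨⟨?_, ?_⟩, fun h => hab ?_⟩
      · rw [Subgroup.coe_mul, mul_smul, show (t' : G) = t from rfl, t1, g2]
      · rw [Subgroup.coe_mul, mul_smul, show (t' : G) = t from rfl, t2, g1]
      · exact h.1.symm.trans g1
  -- the image of the pointwise stabilizer as a permutation group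
  set T₀ : Subgroup (Equiv.Perm X) := T.map ψ.range.subtype with hT₀
  have memT₀ : ∀ {f : Equiv.Perm X}, f ∈ T₀ ↔ ∃ g : K, ((g : G) • a = a ∧ (g : G) • b = b) ∧ ψ g = f := by
    intro f
    constructor
    · rintro ⟨r, hr, rfl⟩
      obtain ⟨g, rfl⟩ := ψ.rangeRestrict_surjective r
      exact ⟨g, (memT g).mp hr, rfl⟩
    · rintro ⟨g, hg, rfl⟩
      exact ⟨ψ.rangeRestrict g, (memT g).mpr hg, rfl⟩
  haveI hT₀t : IsPretransitive T₀ X := ⟨fun u v => by
    obtain ⟨g, g1, g2, g3⟩ := h3 a b u.1 v.1 hab u.2.1 u.2.2 v.2.1 v.2.2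
    exact ⟨⟨ψ ⟨g, Or.inl ⟨g1, g2⟩⟩, memT₀.mpr ⟨_, ⟨g1, g2⟩, rfl⟩⟩, Subtype.ext g3⟩⟩
  haveI hKt : IsPretransitive ψ.range X := ⟨fun u v => by
    obtain ⟨⟨f, hf⟩, hfv⟩ := exists_smul_eq T₀ u v
    obtain ⟨g, -, rfl⟩ := memT₀.mp hf
    exact ⟨⟨ψ g, g, rfl⟩, hfv⟩⟩
  -- it is not solvable
  have hins : ¬ Group.IsSolvable T₀ := by
    intro hs
    haveI := hs
    obtain ⟨u⟩ : Nonempty X := Fintype.card_pos_iff.mp (hX ▸ hq.pos)
    obtain ⟨Q⟩ : Nonempty (Sylow q T₀) := inferInstance
    obtain ⟨z, e, hQ, hz⟩ := PermGp.exists_frame hX T₀ Q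
    have hQn := SquarePlusOne.normal_sylow_of_solvable hX T₀ Q
    have haff : ∀ g : MulAction.stabilizer T₀ (e 0), ∃ k : (ZMod q)ˣ, ∀ i, (g : T₀) • e i = e ((k : ZMod q) * i) := by
      rintro ⟨g, hg⟩
      obtain ⟨k, c, hk0, hgc⟩ := PermGp.normalizer_affine hX T₀ hQ hz
        (g := g) (by rw [Subgroup.normalizer_eq_top_iff.mpr hQn]; trivial)
      have hc : c = 0 := by
        have h := hgc 0
        rw [show g • e 0 = e 0 from hg, mul_zero, zero_add] at h
        exact (e.injective h).symm
      exact ⟨Units.mk0 k hk0, fun i => by simpa [hc] using hgc i⟩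
    choose F hF using haff
    let F' : MulAction.stabilizer T₀ (e 0) →* (ZMod q)ˣ := MonoidHom.mk' F fun g g' => by
      have h1 := hF (g * g') 1
      rw [Subgroup.coe_mul, mul_smul, hF, hF] at h1
      simpa [Units.ext_iff] using (e.injective h1).symm
    have hinj : Function.Injective F' := by
      intro g g' h
      refine Subtype.ext (PermGp.perm_ext fun v => ?_)
      obtain ⟨i, rfl⟩ := e.surjective v
      rw [hF, hF, show F g = F g' from h]
    set d := Nat.card (MulAction.stabilizer T₀ (e 0)) with hd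
    have hdq : d ∣ q - 1 := by
      have := Subgroup.card_dvd_of_injective F' hinj
      rwa [Nat.card_units, Nat.card_zmod] at this
    have hT₀c : Nat.card T₀ = q * d := by
      rw [← PermGp.card_mul_card_stabilizer (G := T₀) (e 0), Nat.card_eq_fintype_card (α := X), hX]
    -- the order of `G`
    have hTc : Nat.card ↥(MulAction.stabilizer G a ⊓ MulAction.stabilizer G b) = Nat.card T₀ := by
      have hmem : ∀ g : ↥(MulAction.stabilizer G a ⊓ MulAction.stabilizer G b),
          (g : G) • a = a ∧ (g : G) • b = b := fun g => ⟨g.2.1, g.2.2⟩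
      refine Nat.card_eq_of_bijective
        (fun g => ⟨ψ ⟨g.1, Or.inl (hmem g)⟩, memT₀.mpr ⟨⟨g.1, Or.inl (hmem g)⟩, hmem g, rfl⟩⟩) ⟨?_, ?_⟩
      · intro g g' h
        exact Subtype.ext (congrArg (fun k : K => (k : G)) (hψ (congrArg Subtype.val h)))
      · rintro ⟨f, hf⟩
        obtain ⟨g, hg, rfl⟩ := memT₀.mp hf
        exact ⟨⟨g.1, hg⟩, rfl⟩
    haveI := h1
    have hGa : p * Nat.card (MulAction.stabilizer G a) = Nat.card G := by
      rw [← PermGp.card_mul_card_stabilizer (G := G) a, Nat.card_eq_fintype_card (α := Ω), hΩ]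
    have hGab : (p - 1) * (q * d) = Nat.card (MulAction.stabilizer G a) := by
      rw [← Subgroup.index_mul_card (MulAction.stabilizer (MulAction.stabilizer G a) b),
        MulAction.index_stabilizer, ← Nat.card_coe_set_eq, ← hT₀c, ← hTc]
      congr 1
      · have horb : MulAction.orbit (MulAction.stabilizer G a) b = {v | v ≠ a} := by
          ext v
          constructor
          · rintro ⟨g, rfl⟩
            exact fun e => hab (MulAction.injective (g : G) ((g.2 : (g : G) • a = a).trans e.symm))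
          · intro hv
            obtain ⟨g, g1, g2⟩ := h2 hab (Ne.symm hv)
            exact ⟨⟨g, g1⟩, g2⟩
        rw [horb, Nat.card_coe_set_eq, show {v : Ω | v ≠ a} = {a}ᶜ from rfl, Set.ncard_compl,
          Set.ncard_singleton, Nat.card_eq_fintype_card, hΩ]
      · exact Nat.card_congr
          { toFun := fun g => ⟨⟨g.1, g.2.1⟩, g.2.2⟩
            invFun := fun g => ⟨g.1.1, g.1.2, g.2⟩ }
    have hnp : Nat.card (Sylow p G) * Nat.card ↥(Subgroup.normalizer ((P : Subgroup G) : Set G)) = Nat.card G := by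
      rw [P.card_eq_index_normalizer]
      exact Subgroup.index_mul_card _
    have hnp' : Nat.card (Sylow p G) = 2 * q * d := by
      have hpos : 0 < p * (p - 1) := Nat.mul_pos hp.pos (by omega)
      refine Nat.eq_of_mul_eq_mul_right hpos ?_
      calc Nat.card (Sylow p G) * (p * (p - 1))
          = 2 * Nat.card G := by rw [← hN, ← hnp]; ring
        _ = 2 * q * d * (p * (p - 1)) := by rw [← hGa, ← hGab]; ring
    have hmod : ((2 * q * d : ℕ) : ZMod p) = ((1 : ℕ) : ZMod p) := by
      rw [ZMod.natCast_eq_natCast_iff, ← hnp']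
      exact card_sylow_modEq_one p G
    have hdvd : p ∣ 4 * d + 1 := by
      rw [← ZMod.natCast_eq_zero_iff]
      have hq' : (q : ZMod p) = -2 := by
        have : ((q + 2 : ℕ) : ZMod p) = 0 := by rw [← hpq]; exact ZMod.natCast_self p
        push_cast at this
        linear_combination this
      push_cast [hq'] at hmod ⊢
      linear_combination -hmod
    obtain ⟨k, hk⟩ := hdvd
    have hdpos : 0 < d := Nat.card_pos
    obtain ⟨m, hm⟩ := hdq
    have hdle : d ≤ q - 1 := Nat.le_of_dvd (by omega) ⟨m, hm⟩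
    have hm1 : 1 ≤ m := Nat.one_le_iff_ne_zero.mpr fun e => by rw [e, mul_zero] at hm; omega
    have hk4 : k < 4 := by
      by_contra hk4
      have := Nat.mul_le_mul_left p (not_lt.mp hk4)
      omega
    interval_cases k
    · omega
    · -- `d = (p - 1) / 4` divides `p - 3`
      rcases (show m = 1 ∨ m = 2 ∨ m = 3 ∨ m = 4 ∨ 5 ≤ m by omega) with rfl | rfl | rfl | rfl | hm5
      · omega
      · omega
      · have hp9 : p = 9 := by omega
        rw [hp9] at hp
        norm_num at hp
      · omega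
      · have := Nat.mul_le_mul_left d hm5
        omega
    · omega
    · rcases (show m = 1 ∨ 2 ≤ m by omega) with rfl | hm2
      · have hq9 : q = 9 := by omega
        rw [hq9] at hq
        norm_num at hq
      · have := Nat.mul_le_mul_left d hm2
        omega
  -- the whole stabilizer of the pair is triply transitive on the other points
  have hins' : ¬ Group.IsSolvable ψ.range := fun h => by
    haveI := h
    exact hins (Group.isSolvable_of_isSolvable_injective (f := Subgroup.inclusion (Subgroup.map_subtype_le T))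
      (Subgroup.inclusion_injective _))
  have h2T := PermGp.two_transitive_of_not_solvable hX T₀ hins
  haveI hTn : T.Normal := Subgroup.normal_of_index_eq_two hindex
  obtain ⟨Q⟩ : Nonempty (Sylow q ψ.range) := inferInstance
  have hQeven : Even (Nat.card ↥(Subgroup.normalizer ((Q : Subgroup ψ.range) : Set ψ.range))) := by
    by_contra hodd
    rw [Nat.not_even_iff_odd] at hodd
    have hsub : Subgroup.normalizer ((Q : Subgroup ψ.range) : Set ψ.range) ≤ T := by
      intro r hr
      obtain ⟨k, hk⟩ := hodd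
      have hpow : r ^ (2 * k + 1) = 1 := by
        rw [← hk]
        exact congrArg Subtype.val (pow_card_eq_one' (x := (⟨r, hr⟩ : ↥(Subgroup.normalizer ((Q : Subgroup ψ.range) : Set ψ.range)))))
      have : r = ((r * r) ^ k)⁻¹ := eq_inv_of_mul_eq_one_left (by rw [← hpow, pow_succ', pow_mul, pow_two])
      rw [this]
      exact T.inv_mem (T.pow_mem (Subgroup.mul_self_mem_of_index_two hindex r) k)
    have htop := Sylow.normalizer_sup_eq_top' (N := T) Q (Subgroup.le_normalizer.trans hsub)
    have htop' : T = ⊤ := (sup_eq_right.mpr hsub).symm.trans htop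
    rw [htop', Subgroup.index_top] at hindex
    omega
  have h3K := Cfsg.Agent.S0676.result hX ψ.range hins' Q hQeven
  -- lift to the pointwise stabilizer
  have hT2 : ∀ u v u' v' : X, u ≠ v → u' ≠ v' →
      ∃ g : G, (g • a = a ∧ g • b = b) ∧ g • (u : Ω) = u' ∧ g • (v : Ω) = v' := by
    intro u v u' v' h h'
    obtain ⟨⟨f, hf⟩, f1, f2⟩ := is_two_pretransitive_iff.mp h2T h h'
    obtain ⟨g, hg, rfl⟩ := memT₀.mp hf
    exact ⟨g, hg, congrArg Subtype.val f1, congrArg Subtype.val f2⟩
  let x' : Fin 3 → X := fun i => ⟨x i, hx i⟩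
  let y' : Fin 3 → X := fun i => ⟨y i, hy i⟩
  obtain ⟨g, ⟨ga, gb⟩, g0, g1⟩ := hT2 (x' 0) (x' 1) (y' 0) (y' 1)
    (fun e => absurd (x.injective (congrArg Subtype.val e)) (by decide))
    (fun e => absurd (y.injective (congrArg Subtype.val e)) (by decide))
  -- orbits of the stabilizer of four points on the rest
  set Rest : Finset Ω := Finset.univ \ {a, b, y 0, y 1} with hRest
  let O : Ω → Finset Ω := fun z => Finset.univ.filter fun w =>
    ∃ k : G, k • a = a ∧ k • b = b ∧ k • y 0 = y 0 ∧ k • y 1 = y 1 ∧ k • z = w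
  have hy01 : y 0 ≠ y 1 := fun e => absurd (y.injective e) (by decide)
  have hrestc : Rest.card = q - 2 := by
    rw [hRest, Finset.card_sdiff_of_subset (Finset.subset_univ _), Finset.card_univ, hΩ,
      Finset.card_insert_of_notMem (by simp [hab, (hy 0).1.symm, (hy 1).1.symm]),
      Finset.card_insert_of_notMem (by simp [(hy 0).2.symm, (hy 1).2.symm]),
      Finset.card_pair hy01]
    omega
  have memRest : ∀ {z}, z ∈ Rest ↔ z ≠ a ∧ z ≠ b ∧ z ≠ y 0 ∧ z ≠ y 1 := by
    intro z; simp [hRest]
  set z := g • x 2 with hz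
  have hzR : z ∈ Rest := by
    refine memRest.mpr ⟨fun e => (hx 2).1 ?_, fun e => (hx 2).2 ?_, fun e => ?_, fun e => ?_⟩
    · exact MulAction.injective g (e.trans ga.symm)
    · exact MulAction.injective g (e.trans gb.symm)
    · exact absurd (x.injective (MulAction.injective g (e.trans g0.symm))) (by decide)
    · exact absurd (x.injective (MulAction.injective g (e.trans g1.symm))) (by decide)
  have hy2R : y 2 ∈ Rest := memRest.mpr ⟨(hy 2).1, (hy 2).2,
    fun e => absurd (y.injective e) (by decide), fun e => absurd (y.injective e) (by decide)⟩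
  -- movers in the stabilizer of the pair
  have hK3 : ∀ {u v}, u ∈ Rest → v ∈ Rest → ∃ k : G,
      ((k • a = a ∧ k • b = b) ∨ (k • a = b ∧ k • b = a)) ∧ k • y 0 = y 0 ∧ k • y 1 = y 1 ∧ k • u = v := by
    intro u v hu hv
    obtain ⟨hua, hub, hu0, hu1⟩ := memRest.mp hu
    obtain ⟨hva, hvb, hv0, hv1⟩ := memRest.mp hv
    have inj3 : ∀ {r : X}, (r : Ω) ≠ y 0 → (r : Ω) ≠ y 1 → Function.Injective ![y' 0, y' 1, r] := by
      intro r e0 e1 i j h
      have h' : ![y 0, y 1, (r : Ω)] i = ![y 0, y 1, (r : Ω)] j := by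
        have := congrArg Subtype.val h
        fin_cases i <;> fin_cases j <;> exact this
      fin_cases i <;> fin_cases j <;> first
        | rfl
        | exact (hy01 h').elim
        | exact (hy01 h'.symm).elim
        | exact (e0 h').elim
        | exact (e0 h'.symm).elim
        | exact (e1 h').elim
        | exact (e1 h'.symm).elim
    obtain ⟨⟨f, k, rfl⟩, hf⟩ := h3K.exists_smul_eq
      ⟨![y' 0, y' 1, ⟨u, hua, hub⟩], inj3 hu0 hu1⟩ ⟨![y' 0, y' 1, ⟨v, hva, hvb⟩], inj3 hv0 hv1⟩
    have hh : ∀ i, (k : G) • ((![y' 0, y' 1, ⟨u, hua, hub⟩] i : X) : Ω) = ((![y' 0, y' 1, ⟨v, hva, hvb⟩] i : X) : Ω) :=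
      fun i => congrArg (fun e : Fin 3 ↪ X => ((e i : X) : Ω)) hf
    exact ⟨k, k.2, hh 0, hh 1, hh 2⟩
  by_cases hO : y 2 ∈ O z
  · obtain ⟨k, k1, k2, k3, k4, k5⟩ := (Finset.mem_filter.mp hO).2
    refine ⟨k * g, by rw [mul_smul, ga, k1], by rw [mul_smul, gb, k2], fun i => ?_⟩
    fin_cases i
    · show (k * g) • x 0 = y 0
      rw [mul_smul, show g • x 0 = y 0 from g0, k3]
    · show (k * g) • x 1 = y 1
      rw [mul_smul, show g • x 1 = y 1 from g1, k4]
    · show (k * g) • x 2 = y 2
      rw [mul_smul, ← hz, k5]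
  exfalso
  obtain ⟨m, hm', m0, m1, mz⟩ := hK3 hzR hy2R
  have hms : m • a = b ∧ m • b = a := hm'.resolve_left fun h =>
    hO (Finset.mem_filter.mpr ⟨Finset.mem_univ _, m, h.1, h.2, m0, m1, mz⟩)
  obtain ⟨ma, mb⟩ := hms
  have hOsub : ∀ w ∈ O z, w ∈ Rest := by
    intro w hw
    obtain ⟨k, k1, k2, k3, k4, k5⟩ := (Finset.mem_filter.mp hw).2
    obtain ⟨za, zb, z0, z1⟩ := memRest.mp hzR
    refine memRest.mpr ⟨?_, ?_, ?_, ?_⟩ <;> intro e <;> subst e
    · exact za (MulAction.injective k (k5.trans k1.symm))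
    · exact zb (MulAction.injective k (k5.trans k2.symm))
    · exact z0 (MulAction.injective k (k5.trans k3.symm))
    · exact z1 (MulAction.injective k (k5.trans k4.symm))
  have hmR : ∀ {w}, w ∈ Rest → m • w ∈ Rest := by
    intro w hw
    obtain ⟨wa, wb, w0, w1⟩ := memRest.mp hw
    exact memRest.mpr ⟨fun e => wb (MulAction.injective m (e.trans mb.symm)),
      fun e => wa (MulAction.injective m (e.trans ma.symm)),
      fun e => w0 (MulAction.injective m (e.trans m0.symm)),
      fun e => w1 (MulAction.injective m (e.trans m1.symm))⟩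
  have huni : O z ∪ (O z).image (fun w => m • w) = Rest := by
    ext w
    constructor
    · intro hw
      rcases Finset.mem_union.mp hw with hw | hw
      · exact hOsub w hw
      · obtain ⟨w', hw', rfl⟩ := Finset.mem_image.mp hw
        exact hmR (hOsub w' hw')
    · intro hw
      obtain ⟨k, hk, k0, k1, kz⟩ := hK3 hzR hw
      rcases hk with ⟨ka, kb⟩ | ⟨ka, kb⟩
      · exact Finset.mem_union_left _ (Finset.mem_filter.mpr ⟨Finset.mem_univ _, k, ka, kb, k0, k1, kz⟩)
      · refine Finset.mem_union_right _ (Finset.mem_image.mpr ⟨m⁻¹ • w, ?_, smul_inv_smul m w⟩)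
        exact Finset.mem_filter.mpr ⟨Finset.mem_univ _, m⁻¹ * k,
          by rw [mul_smul, ka, inv_smul_eq_iff, ma],
          by rw [mul_smul, kb, inv_smul_eq_iff, mb],
          by rw [mul_smul, k0, inv_smul_eq_iff, m0],
          by rw [mul_smul, k1, inv_smul_eq_iff, m1], by rw [mul_smul, kz]⟩
  have hdis : Disjoint (O z) ((O z).image fun w => m • w) := by
    rw [Finset.disjoint_left]
    intro w hw hwi
    obtain ⟨w', hw1, rfl⟩ := Finset.mem_image.mp hwi
    obtain ⟨k, ka, kb, k0, k1, kz⟩ := (Finset.mem_filter.mp hw).2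
    obtain ⟨l, la, lb, l0, l1, lz⟩ := (Finset.mem_filter.mp hw1).2
    -- conjugating the mover of `z` to `w'` by `m`
    refine hO (Finset.mem_filter.mpr ⟨Finset.mem_univ _, m * l⁻¹ * m⁻¹ * k, ?_, ?_, ?_, ?_, ?_⟩)
    · simp only [mul_smul, ka, inv_smul_eq_iff.mpr mb.symm, inv_smul_eq_iff.mpr lb.symm, mb]
    · simp only [mul_smul, kb, inv_smul_eq_iff.mpr ma.symm, inv_smul_eq_iff.mpr la.symm, ma]
    · simp only [mul_smul, k0, inv_smul_eq_iff.mpr m0.symm, inv_smul_eq_iff.mpr l0.symm, m0]
    · simp only [mul_smul, k1, inv_smul_eq_iff.mpr m1.symm, inv_smul_eq_iff.mpr l1.symm, m1]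
    · simp only [mul_smul, kz, inv_smul_smul, inv_smul_eq_iff.mpr lz.symm, mz]
  have hc := congrArg Finset.card huni
  rw [Finset.card_union_of_disjoint hdis, Finset.card_image_of_injective _ (MulAction.injective m), hrestc] at hc
  have := hq.eq_two_or_odd
  omega

/-- A group of prime degree with Sylow normaliser of order `p (p - 1) / 2` is even. -/
theorem sign_eq_one (hp : p.Prime) (hp2 : p ≠ 2) (hΩ : Fintype.card Ω = p) (P : Sylow p G)
    (hN : 2 * Nat.card ↥(Subgroup.normalizer ((P : Subgroup G) : Set G)) = p * (p - 1))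
    {x : G} {e : ZMod p ≃ Ω} (hP : (P : Subgroup G) = Subgroup.zpowers x)
    (hx : ∀ i, x • e i = e (i + 1))
    (hsq : ∀ r : ZMod p, r ≠ 0 → ∃ g : G, ∀ i, g • e i = e (r ^ 2 * i)) (g : G) :
    Equiv.Perm.sign (MulAction.toPerm g : Equiv.Perm Ω) = 1 := by
  classical
  haveI := Fact.mk hp
  let s : G →* ℤˣ := Equiv.Perm.sign.comp (MulAction.toPermHom G Ω)
  set N := Subgroup.normalizer ((P : Subgroup G) : Set G) with hNdef
  have hpow : ∀ (t i : ZMod p), x ^ t.val • e i = e (i + t) := by
    intro t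
    have : ∀ (n : ℕ) (i : ZMod p), x ^ n • e i = e (i + n) := by
      intro n
      induction n with
      | zero => intro i; simp
      | succ n ih => intro i; rw [pow_succ', mul_smul, ih, hx]; push_cast; rw [add_assoc]
    intro i
    rw [this, ZMod.natCast_zmod_val]
  have ext' : ∀ {g k : G}, (∀ i, g • e i = k • e i) → g = k := fun h =>
    eq_of_smul_eq_smul fun v : Ω => by obtain ⟨i, rfl⟩ := e.surjective v; exact h i
  have hxp : x ^ p = 1 := ext' fun i => by
    have : ∀ (n : ℕ) (i : ZMod p), x ^ n • e i = e (i + n) := by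
      intro n
      induction n with
      | zero => intro i; simp
      | succ n ih => intro i; rw [pow_succ', mul_smul, ih, hx]; push_cast; rw [add_assoc]
    rw [this, ZMod.natCast_self, add_zero, one_smul]
  have hsx : s x = 1 := by
    have h := congrArg s hxp
    rw [map_pow, map_one] at h
    rcases Int.units_eq_one_or (s x) with h' | h'
    · exact h'
    · rw [h', (hp.odd_of_ne_two hp2).neg_one_pow] at h
      exact absurd h (by decide)
  have hPN : (P : Subgroup G) ≤ N := Subgroup.le_normalizer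
  have hxN : x ∈ N := hPN (hP ▸ Subgroup.mem_zpowers x)
  -- square multipliers lie in the normaliser and are even
  let S := (powMonoidHom 2 : (ZMod p)ˣ →* (ZMod p)ˣ).range
  have hS : ∀ u : S, ∃ g : G, (∀ i, g • e i = e (((u : (ZMod p)ˣ) : ZMod p) * i)) ∧ g ∈ N ⊓ s.ker := by
    rintro ⟨_, r, rfl⟩
    obtain ⟨g, hg⟩ := hsq r r.ne_zero
    refine ⟨g, fun i => by simpa using hg i, ?_, ?_⟩
    · show g ∈ Subgroup.normalizer ((P : Subgroup G) : Set G)
      rw [Subgroup.mem_normalizer_iff_map_conj_eq]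
      refine Subgroup.eq_of_le_of_card_ge ?_ ?_
      · rw [hP, MonoidHom.map_zpowers, Subgroup.zpowers_le]
        refine ⟨((r : ZMod p) ^ 2).val, ?_⟩
        refine ext' fun i => ?_
        show x ^ ((((r : ZMod p) ^ 2).val : ℕ) : ℤ) • e i = (g * x * g⁻¹) • e i
        obtain ⟨j, hj⟩ : ∃ j, i = (r : ZMod p) ^ 2 * j :=
          ⟨((r : ZMod p) ^ 2)⁻¹ * i, by rw [mul_inv_cancel_left₀ (pow_ne_zero _ r.ne_zero)]⟩
        rw [zpow_natCast, hpow, hj, mul_smul, mul_smul, inv_smul_eq_iff.mpr (hg j).symm, hx, hg]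
        congr 1; ring
      · rw [Subgroup.card_map_of_injective (MulEquiv.injective _)]
    · show Equiv.Perm.sign (MulAction.toPerm g : Equiv.Perm Ω) = 1
      have : (MulAction.toPerm g : Equiv.Perm Ω) =
          e.permCongr (Equiv.mulLeft₀ (r : ZMod p) r.ne_zero * Equiv.mulLeft₀ (r : ZMod p) r.ne_zero) := by
        ext v
        obtain ⟨i, rfl⟩ := e.surjective v
        simp [hg, Equiv.permCongr_apply, ← mul_assoc, pow_two]
      rw [this, Equiv.Perm.sign_permCongr, map_mul, Int.units_mul_self]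
  choose gS hgS hgS' using hS
  let Φ : ZMod p × S → ↥(N ⊓ s.ker) := fun z => ⟨x ^ z.1.val * gS z.2,
    Subgroup.mul_mem _ (Subgroup.pow_mem _ (Subgroup.mem_inf.mpr ⟨hxN, hsx⟩) _) (hgS' z.2)⟩
  have hΦ : Function.Injective Φ := by
    rintro ⟨t, u⟩ ⟨t', u'⟩ h
    have h' : ∀ i, (u : (ZMod p)ˣ) * i + t = (u' : (ZMod p)ˣ) * i + t' := fun i => by
      have := congrArg (fun z : ↥(N ⊓ s.ker) => (z : G) • e i) h
      simp only [Φ, mul_smul, hgS, hpow] at this
      exact e.injective this
    have h0 := h' 0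
    rw [mul_zero, mul_zero, zero_add, zero_add] at h0
    have h1 := h' 1
    rw [mul_one, mul_one, h0, add_left_inj] at h1
    exact Prod.ext h0 (Subtype.ext (Units.ext h1))
  have hScard : p - 1 ≤ Nat.card S * 2 := by
    have h := Subgroup.index_mul_card (powMonoidHom 2 : (ZMod p)ˣ →* (ZMod p)ˣ).ker
    rw [Subgroup.index_ker, Nat.card_units, Nat.card_zmod] at h
    rw [← h]
    refine Nat.mul_le_mul_left _ ?_
    calc Nat.card (powMonoidHom 2 : (ZMod p)ˣ →* (ZMod p)ˣ).ker
        ≤ Nat.card ↥({1, -1} : Set (ZMod p)ˣ) := by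
          refine Nat.card_mono (Set.toFinite _) fun u hu => ?_
          have hu' : (u : ZMod p) ^ 2 = 1 := by
            have := congrArg Units.val (MonoidHom.mem_ker.mp hu)
            simpa using this
          rcases sq_eq_one_iff.mp hu' with h1 | h1
          · exact Or.inl (Units.ext h1)
          · exact Or.inr (Units.ext (by simpa using h1))
      _ ≤ 2 := by
          rw [Nat.card_coe_set_eq]
          exact (Set.ncard_insert_le _ _).trans (by rw [Set.ncard_singleton])
  have hle : Nat.card N ≤ Nat.card ↥(N ⊓ s.ker) := by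
    have h := Nat.card_le_card_of_injective Φ hΦ
    rw [Nat.card_prod, Nat.card_zmod] at h
    have := Nat.mul_le_mul_left p hScard
    nlinarith [hN]
  have hNs : N ≤ s.ker := by
    rw [← inf_eq_left]
    exact Subgroup.eq_of_le_of_card_ge inf_le_left hle
  have htop := Sylow.normalizer_sup_eq_top' (N := s.ker) P (hPN.trans hNs)
  have hker : s.ker = ⊤ := (sup_eq_right.mpr hNs).symm.trans htop
  exact MonoidHom.mem_ker.mp (show g ∈ s.ker by rw [hker]; trivial)

end five

end Cfsg.Agent.PrimeDegreePairs
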